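import Cfsg.Agent.Lib.Coprime.Commutator
import Cfsg.Agent.Lib.Coprime.HyperplaneGeneration
import Cfsg.Agent.Lib.PGroup.Frattini

/-!
An elementary abelian group of order `q²` acting coprimely with abelian centralizers and without
common fixed points: basic facts and the generation lemma.
-/

set_option autoImplicit false
set_option linter.style.haveILetI false
set_option linter.unusedSectionVars false

open scoped commutatorElement
open Subgroup

namespace CfsgLib.QSq

variable {Γ : Type*} [Group Γ]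

theorem mem_centralizer_iff_commute {a x : Γ} :
    x ∈ centralizer ({a} : Set Γ) ↔ Commute a x := by
  rw [mem_centralizer_iff]
  simp [Commute, SemiconjBy]

/-- The setting. -/
structure Setup (q : ℕ) (A G : Subgroup Γ) : Prop where
  prime : q.Prime
  elemAb : Cfsg.IsElementaryAbelian q A
  card_eq : Nat.card A = q ^ 2
  le_normalizer : A ≤ normalizer (G : Set Γ)
  coprime : ¬ q ∣ Nat.card G
  abelian : ∀ a ∈ A, a ≠ 1 → ∀ x ∈ G, ∀ y ∈ G, Commute a x → Commute a y → Commute x y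
  fpf : G ⊓ centralizer (A : Set Γ) = ⊥

theorem le_normalizer_commutator {K X Y : Subgroup Γ} (hX : K ≤ normalizer (X : Set Γ))
    (hY : K ≤ normalizer (Y : Set Γ)) : K ≤ normalizer ((⁅X, Y⁆ : Subgroup Γ) : Set Γ) := by
  refine le_normalizer_iff.2 fun k hk z hz => ?_
  suffices h : ⁅X, Y⁆ ≤ (⁅X, Y⁆).comap (MulAut.conj k).toMonoidHom from h hz
  refine commutator_le.2 fun x hx y hy => ?_
  show k * ⁅x, y⁆ * k⁻¹ ∈ ⁅X, Y⁆
  rw [conjugate_commutatorElement]
  exact commutator_mem_commutator (CfsgLib.Coprime.mem_normalizer_conj (hX hk) hx)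
    (CfsgLib.Coprime.mem_normalizer_conj (hY hk) hy)

theorem le_normalizer_inf {K X Y : Subgroup Γ} (hX : K ≤ normalizer (X : Set Γ))
    (hY : K ≤ normalizer (Y : Set Γ)) : K ≤ normalizer ((X ⊓ Y : Subgroup Γ) : Set Γ) :=
  le_normalizer_iff.2 fun _ hk _ hz =>
    ⟨CfsgLib.Coprime.mem_normalizer_conj (hX hk) hz.1, CfsgLib.Coprime.mem_normalizer_conj (hY hk) hz.2⟩

theorem le_normalizer_sup {K X Y : Subgroup Γ} (hX : K ≤ normalizer (X : Set Γ))
    (hY : K ≤ normalizer (Y : Set Γ)) : K ≤ normalizer ((X ⊔ Y : Subgroup Γ) : Set Γ) := by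
  refine le_normalizer_iff.2 fun k hk z hz => ?_
  suffices h : X ⊔ Y ≤ (X ⊔ Y).comap (MulAut.conj k).toMonoidHom from h hz
  exact sup_le (fun x hx => mem_sup_left (CfsgLib.Coprime.mem_normalizer_conj (hX hk) hx))
    (fun y hy => mem_sup_right (CfsgLib.Coprime.mem_normalizer_conj (hY hk) hy))

theorem le_normalizer_centralizer {K X : Subgroup Γ} (hX : K ≤ normalizer (X : Set Γ)) :
    K ≤ normalizer ((centralizer (X : Set Γ) : Subgroup Γ) : Set Γ) := by
  refine le_normalizer_iff.2 fun k hk z hz => mem_centralizer_iff.2 fun x hx => ?_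
  have h := mem_centralizer_iff.1 hz _ (CfsgLib.Coprime.mem_normalizer_conj' (hX hk) hx)
  calc x * (k * z * k⁻¹) = k * (k⁻¹ * x * k * z) * k⁻¹ := by group
    _ = k * (z * (k⁻¹ * x * k)) * k⁻¹ := by rw [h]
    _ = k * z * k⁻¹ * x := by group

theorem le_normalizer_normalizer {K X : Subgroup Γ} (hX : K ≤ normalizer (X : Set Γ)) :
    K ≤ normalizer ((normalizer (X : Set Γ) : Subgroup Γ) : Set Γ) :=
  hX.trans Subgroup.le_normalizer

/-- A product of elements of coprime order centralizing: each centralizes. -/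
theorem mem_centralizer_of_mul [Finite Γ] {W : Subgroup Γ} {t u : Γ}
    (ht : t ∈ normalizer (W : Set Γ)) (hu : u ∈ normalizer (W : Set Γ))
    (hcop : (orderOf t).Coprime (orderOf u)) (h : t * u ∈ centralizer (W : Set Γ)) :
    t ∈ centralizer (W : Set Γ) ∧ u ∈ centralizer (W : Set Γ) := by
  set f := W.normalizerMonoidHom
  have hmem : ∀ g : normalizer (W : Set Γ), f g = 1 ↔ (g : Γ) ∈ centralizer (W : Set Γ) := by
    intro g
    rw [← MonoidHom.mem_ker, Subgroup.normalizerMonoidHom_ker, mem_subgroupOf]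
  have h1 : f ⟨t, ht⟩ * f ⟨u, hu⟩ = 1 := by rw [← map_mul, hmem]; exact h
  have ho : orderOf (f ⟨t, ht⟩) ∣ orderOf t :=
    (orderOf_map_dvd f _).trans (by rw [← orderOf_mk t ht])
  have ho' : orderOf (f ⟨t, ht⟩) ∣ orderOf u := by
    rw [eq_inv_of_mul_eq_one_left h1, orderOf_inv]
    exact (orderOf_map_dvd f _).trans (by rw [← orderOf_mk u hu])
  have ht1 : f ⟨t, ht⟩ = 1 := orderOf_eq_one_iff.1 (Nat.eq_one_of_dvd_coprimes hcop ho ho')
  rw [ht1, one_mul] at h1
  exact ⟨(hmem _).1 ht1, (hmem _).1 h1⟩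

/-- The generator of a nilpotent group modulo its commutator subgroup. -/
theorem eq_of_sup_commutator [Finite Γ] {r : ℕ} [Fact r.Prime] {Y M : Subgroup Γ}
    (hY : IsPGroup r Y) (hM : M ≤ Y) (h : Y ≤ M ⊔ ⁅Y, Y⁆) : M = Y := by
  refine le_antisymm hM ?_
  have h1 : M.subgroupOf Y ⊔ frattini Y = ⊤ := by
    rw [eq_top_iff]
    intro y _
    have h2 : Y ≤ (M.subgroupOf Y ⊔ frattini Y).map Y.subtype := by
      refine h.trans (sup_le ?_ ?_)
      · rw [Subgroup.map_sup, Subgroup.map_subgroupOf_eq_of_le hM]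
        exact le_sup_left
      · have h3 : ⁅Y, Y⁆ = (commutator Y).map Y.subtype := by
          rw [commutator_def, map_commutator, ← MonoidHom.range_eq_map, range_subtype]
        rw [h3]
        exact map_mono ((CfsgLib.PGroup.commutator_le_frattini hY).trans le_sup_right)
    obtain ⟨z, hz, hzy⟩ := h2 y.2
    rwa [Subtype.ext hzy] at hz
  intro y hy
  have h2 : (⟨y, hy⟩ : Y) ∈ M.subgroupOf Y := by
    rw [frattini_nongenerating h1]; exact mem_top _
  exact h2

/-- Fixed-point-free conjugation by an element of order dividing `q`: the kernel acts trivially. -/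
theorem frobenius_trivial {V L : Type*} [CommGroup V] [Finite V] [Group L] (ψ : L →* MulAut V)
    (X : Subgroup L) [Finite X] (c : L) {q : ℕ} (hq : 0 < q) (hcq : c ^ q = 1)
    (hcX : ∀ x ∈ X, c * x * c⁻¹ ∈ X)
    (hfix : ∀ x ∈ X, ∀ i : ℕ, 0 < i → i < q → c ^ i * x * (c ^ i)⁻¹ = x → x = 1)
    (hV : ∀ v, ψ c v = v → v = 1) (hcop : (Nat.card X).Coprime (Nat.card V))
    {y : L} (hy : y ∈ X) : ψ y = 1 := by
  classical
  haveI := Fintype.ofFinite X
  have hciX : ∀ (i : ℕ) (x : L), x ∈ X → c ^ i * x * (c ^ i)⁻¹ ∈ X := by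
    intro i
    induction i with
    | zero => intro x hx; simpa using hx
    | succ i ih =>
      intro x hx
      have h := hcX _ (ih x hx)
      have e : c * (c ^ i * x * (c ^ i)⁻¹) * c⁻¹ = c ^ (i + 1) * x * (c ^ (i + 1))⁻¹ := by
        rw [pow_succ']; group
      rwa [e] at h
  have hnorm : ∀ v, ∏ i ∈ Finset.range q, ψ (c ^ i) v = 1 := by
    intro v
    refine hV _ ?_
    rw [map_prod]
    have e : ∀ i ∈ Finset.range q, ψ c (ψ (c ^ i) v) = ψ (c ^ (i + 1)) v := fun i _ => by
      rw [pow_succ', map_mul]; rfl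
    rw [Finset.prod_congr rfl e]
    obtain ⟨m, rfl⟩ : ∃ m, q = m + 1 := ⟨q - 1, by omega⟩
    rw [Finset.prod_range_succ, Finset.prod_range_succ' (fun i => ψ (c ^ i) v), hcq, pow_zero]
  set Sm : V → V := fun v => ∏ x : X, ψ (x : L) v with hSm
  have hS1 : Sm 1 = 1 := by simp [hSm]
  have key : ∀ v, v ^ Nat.card X = Sm v := by
    intro v
    have h1 : ∏ i ∈ Finset.range q, ∏ x : X, ψ ((x : L) * c ^ i * (x : L)⁻¹) v = 1 := by
      rw [Finset.prod_comm]
      refine Finset.prod_eq_one fun x _ => ?_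
      have h2 := congrArg (ψ (x : L)) (hnorm (ψ (x : L)⁻¹ v))
      rw [map_prod, map_one] at h2
      refine Eq.trans (Finset.prod_congr rfl fun i _ => ?_) h2
      rw [map_mul, map_mul]; rfl
    have h2 : ∀ i ∈ Finset.range q, i ≠ 0 →
        ∏ x : X, ψ ((x : L) * c ^ i * (x : L)⁻¹) v = Sm (ψ (c ^ i) v) := by
      intro i hi hi0
      set g : X → X := fun x => ⟨(x : L) * (c ^ i * (x : L)⁻¹ * (c ^ i)⁻¹),
        X.mul_mem x.2 (hciX i _ (X.inv_mem x.2))⟩ with hg
      have hgi : Function.Injective g := by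
        intro x z h
        have h' : (x : L) * (c ^ i * (x : L)⁻¹ * (c ^ i)⁻¹) =
            (z : L) * (c ^ i * (z : L)⁻¹ * (c ^ i)⁻¹) := congrArg Subtype.val h
        have h3 := hfix ((z : L)⁻¹ * x) (X.mul_mem (X.inv_mem z.2) x.2) i (Nat.pos_of_ne_zero hi0)
          (Finset.mem_range.1 hi) (by
            calc c ^ i * ((z : L)⁻¹ * x) * (c ^ i)⁻¹
                = (z : L)⁻¹ * ((z : L) * (c ^ i * (z : L)⁻¹ * (c ^ i)⁻¹)) *
                    ((x : L) * (c ^ i * (x : L)⁻¹ * (c ^ i)⁻¹))⁻¹ * x := by group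
              _ = (z : L)⁻¹ * x := by rw [← h']; group)
        exact Subtype.ext (inv_mul_eq_one.1 h3).symm
      have hgb : Function.Bijective g := Finite.injective_iff_bijective.1 hgi
      refine Eq.trans (Finset.prod_congr rfl fun x _ => ?_)
        (hgb.prod_comp fun x : X => ψ (x : L) (ψ (c ^ i) v))
      have e : (x : L) * c ^ i * (x : L)⁻¹ = (g x : L) * c ^ i := by
        simp only [hg]; group
      rw [e, map_mul]; rfl
    have h3 : ∏ i ∈ Finset.range q, Sm (ψ (c ^ i) v) = 1 := by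
      rw [hSm, Finset.prod_comm]
      refine Finset.prod_eq_one fun x _ => ?_
      rw [← map_prod, hnorm, map_one]
    have h0 : (0 : ℕ) ∈ Finset.range q := Finset.mem_range.2 hq
    rw [← Finset.mul_prod_erase _ _ h0] at h1 h3
    rw [Finset.prod_congr rfl (fun i hi => h2 i (Finset.mem_erase.1 hi).2 (Finset.mem_erase.1 hi).1)]
      at h1
    have e1 : ∏ x : X, ψ ((x : L) * c ^ 0 * (x : L)⁻¹) v = v ^ Nat.card X := by
      rw [Nat.card_eq_fintype_card, ← Finset.card_univ, ← Finset.prod_const]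
      refine Finset.prod_congr rfl fun x _ => ?_
      rw [pow_zero, mul_one, mul_inv_cancel, map_one]; rfl
    have e3 : ψ (c ^ 0) v = v := by rw [pow_zero, map_one]; rfl
    rw [e1] at h1
    rw [e3] at h3
    exact mul_right_cancel (h1.trans h3.symm)
  refine MulEquiv.ext fun v => ?_
  have hfixS : ψ y (Sm v) = Sm v := by
    rw [hSm, map_prod]
    refine Eq.trans (Finset.prod_congr rfl fun x _ => ?_)
      (Equiv.prod_comp (Equiv.mulLeft (⟨y, hy⟩ : X)) fun x : X => ψ (x : L) v)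
    rw [Equiv.coe_mulLeft, Subgroup.coe_mul, map_mul]; rfl
  rw [← key, map_pow] at hfixS
  exact (powCoprime hcop.symm).injective hfixS

variable [Finite Γ] {q : ℕ} {A G : Subgroup Γ}

namespace Setup

variable (S : Setup q A G)
include S

theorem isMulCommutative : IsMulCommutative A := S.elemAb.1

theorem commute {a b : Γ} (ha : a ∈ A) (hb : b ∈ A) : Commute a b := by
  haveI := S.elemAb.1
  exact setLike_mul_comm ha hb

theorem isSolvable : Group.IsSolvable A := by
  haveI := S.elemAb.1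
  letI : CommGroup A :=
    { (inferInstance : Group A) with mul_comm := fun a b => (IsMulCommutative.is_comm).comm a b }
  infer_instance

theorem coprime_card {H : Subgroup Γ} (hH : H ≤ G) : (Nat.card A).Coprime (Nat.card H) := by
  rw [S.card_eq]
  exact ((S.prime.coprime_iff_not_dvd.2 S.coprime).coprime_dvd_right
    (card_dvd_of_le hH)).pow_left 2

theorem orderOf_eq {a : Γ} (ha : a ∈ A) (ha1 : a ≠ 1) : orderOf a = q :=
  haveI := Fact.mk S.prime
  orderOf_eq_prime (S.elemAb.2 a ha) ha1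

theorem sup_zpowers {a c : Γ} (ha : a ∈ A) (ha1 : a ≠ 1) (hc : c ∈ A) (hca : c ∉ zpowers a) :
    zpowers a ⊔ zpowers c = A := by
  have hle : zpowers a ⊔ zpowers c ≤ A := sup_le (zpowers_le.2 ha) (zpowers_le.2 hc)
  refine eq_of_le_of_card_ge hle ?_
  have hlt : zpowers a < zpowers a ⊔ zpowers c := lt_of_le_of_ne le_sup_left fun e =>
    hca (e ▸ mem_sup_right (mem_zpowers c))
  have h1 := card_dvd_of_le hle
  rw [S.card_eq] at h1 ⊢
  obtain ⟨k, hk, hkc⟩ := (Nat.dvd_prime_pow S.prime).1 h1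
  rw [hkc]
  refine Nat.pow_le_pow_right S.prime.pos ?_
  by_contra hlt2
  push Not at hlt2
  refine hlt.ne (eq_of_le_of_card_ge hlt.le ?_)
  rw [hkc, Nat.card_zpowers, S.orderOf_eq ha ha1]
  exact le_trans (Nat.pow_le_pow_right S.prime.pos (by omega : k ≤ 1)) (pow_one q).le

theorem eq_one_of_commute_two {a c x : Γ} (ha : a ∈ A) (ha1 : a ≠ 1) (hc : c ∈ A)
    (hca : c ∉ zpowers a) (hx : x ∈ G) (hax : Commute a x) (hcx : Commute c x) : x = 1 := by
  have h : A ≤ centralizer ({x} : Set Γ) := by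
    rw [← S.sup_zpowers ha ha1 hc hca]
    exact sup_le (zpowers_le.2 (mem_centralizer_iff_commute.2 hax.symm))
      (zpowers_le.2 (mem_centralizer_iff_commute.2 hcx.symm))
  have h2 : x ∈ G ⊓ centralizer (A : Set Γ) :=
    ⟨hx, mem_centralizer_iff.2 fun b hb => (mem_centralizer_iff_commute.1 (h hb)).symm.eq⟩
  rwa [S.fpf, mem_bot] at h2

theorem pow_not_mem {a c : Γ} (hc : c ∈ A) (hca : c ∉ zpowers a) {i : ℕ}
    (hi0 : 0 < i) (hi : i < q) : c ^ i ∉ zpowers a := by
  intro h
  apply hca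
  have hc1 : c ≠ 1 := fun e => hca (e ▸ one_mem _)
  have hcop : i.Coprime (orderOf c) := by
    rw [S.orderOf_eq hc hc1]
    exact ((S.prime.coprime_iff_not_dvd).2 fun hd => absurd (Nat.le_of_dvd hi0 hd) (by omega)).symm
  have h2 : zpowers (c ^ i) = zpowers c := by
    refine eq_of_le_of_card_ge (zpowers_le.2 (pow_mem (mem_zpowers c) i)) ?_
    rw [Nat.card_zpowers, Nat.card_zpowers, hcop.symm.orderOf_pow]
  exact zpowers_le.2 h (h2 ▸ mem_zpowers c)

theorem exists_not_mem_zpowers {a : Γ} (ha : a ∈ A) (ha1 : a ≠ 1) : ∃ c ∈ A, c ∉ zpowers a := by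
  by_contra h
  push Not at h
  have h1 := Subgroup.card_le_of_le (show A ≤ zpowers a from h)
  rw [S.card_eq, Nat.card_zpowers, S.orderOf_eq ha ha1] at h1
  nlinarith [S.prime.two_le]

omit S in
theorem commute_of_mem_zpowers {a e x : Γ} (he : e ∈ zpowers a) (hax : Commute a x) :
    Commute e x := by
  obtain ⟨i, rfl⟩ := mem_zpowers_iff.1 he
  exact hax.zpow_left i

theorem mem_zpowers_symm {a e : Γ} (ha : a ∈ A) (ha1 : a ≠ 1) (he : e ∈ zpowers a) (he1 : e ≠ 1) :
    a ∈ zpowers e := by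
  have heA : e ∈ A := zpowers_le.2 ha he
  have h : zpowers e = zpowers a := eq_of_le_of_card_ge (zpowers_le.2 he) (by
    rw [Nat.card_zpowers, Nat.card_zpowers, S.orderOf_eq ha ha1, S.orderOf_eq heA he1])
  exact h ▸ mem_zpowers a

/-- Fixed points of `a` in an invariant subgroup are invariant. -/
theorem le_normalizer_fix {a : Γ} (ha : a ∈ A) {H : Subgroup Γ}
    (hH : A ≤ normalizer (H : Set Γ)) :
    A ≤ normalizer ((H ⊓ centralizer ({a} : Set Γ) : Subgroup Γ) : Set Γ) :=
  le_normalizer_iff.2 fun b hb x hx =>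
    ⟨CfsgLib.Coprime.mem_normalizer_conj (hH hb) hx.1, mem_centralizer_iff_commute.2 (by
      have h := mem_centralizer_iff_commute.1 hx.2
      exact ((S.commute ha hb).mul_right h).mul_right (S.commute ha hb).inv_right)⟩

theorem inv_isSolvable {H : Subgroup Γ} (hH : H ≤ G) :
    (Nat.card A).Coprime (Nat.card H) ∧ (Group.IsSolvable A ∨ Group.IsSolvable H) :=
  ⟨S.coprime_card hH, Or.inl S.isSolvable⟩

/-- An invariant subgroup is generated by the fixed points of the nontrivial elements. -/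
theorem le_of_forall_fix {H W : Subgroup Γ} (hHG : H ≤ G) (hH : A ≤ normalizer (H : Set Γ))
    (h : ∀ a ∈ A, a ≠ 1 → H ⊓ centralizer ({a} : Set Γ) ≤ W) : H ≤ W := by
  haveI := Fact.mk S.prime
  have hA1 : A ≠ ⊥ := fun e => by
    have := S.card_eq
    rw [e, card_bot] at this
    exact absurd this (Nat.one_lt_pow two_ne_zero S.prime.one_lt).ne
  have hcop : (Nat.card H).Coprime q :=
    ((S.prime.coprime_iff_not_dvd.2 S.coprime).symm).coprime_dvd_left (card_dvd_of_le hHG)
  rw [← CfsgLib.Coprime39.eq_hyperCent S.elemAb hA1 hcop hH]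
  refine iSup_le fun B => ?_
  have hB : ((B : Subgroup Γ)) ≠ ⊥ := fun e => by
    have := B.2.2
    rw [e, relIndex_bot_left, S.card_eq] at this
    nlinarith [S.prime.two_le]
  obtain ⟨a, ha, ha1⟩ := (bot_or_exists_ne_one _).resolve_left hB
  refine le_trans ?_ (h a (B.2.1 ha) ha1)
  exact inf_le_inf_left _ (centralizer_le (Set.singleton_subset_iff.2 ha))

/-- Generation: if `X ≤ C(a)` and `Y = [Y, X]`, then `Y` is generated by the `X`-conjugates of
`C_Y(c)` for any `c` outside `⟨a⟩`. -/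
theorem le_of_generation {a c : Γ} (ha : a ∈ A) (ha1 : a ≠ 1) (hc : c ∈ A) (hca : c ∉ zpowers a)
    {r : ℕ} [Fact r.Prime] {X Y W : Subgroup Γ} (hX : X ≤ G) (hXA : A ≤ normalizer (X : Set Γ))
    (hXa : ∀ x ∈ X, Commute a x) (hY : Y ≤ G) (hYA : A ≤ normalizer (Y : Set Γ))
    (hYr : IsPGroup r Y) (hXY : X ≤ normalizer (Y : Set Γ))
    (hcop : (Nat.card X).Coprime (Nat.card Y)) (hcomm : ⁅Y, X⁆ = Y)
    (hW : ∀ x ∈ X, ∀ w ∈ Y, Commute c w → x * w * x⁻¹ ∈ W) : Y ≤ W := by
  set s : Set Γ := {z | ∃ x ∈ X, ∃ w ∈ Y, Commute c w ∧ z = x * w * x⁻¹} with hs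
  set Y₀ := closure s with hY₀
  suffices h : Y₀ = Y by
    rw [← h, hY₀, closure_le]
    rintro _ ⟨x, hx, w, hw, hcw, rfl⟩
    exact hW x hx w hw hcw
  have hY₀Y : Y₀ ≤ Y := (closure_le _).2 (by
    rintro _ ⟨x, hx, w, hw, -, rfl⟩
    exact CfsgLib.Coprime.mem_normalizer_conj (hXY hx) hw)
  have hXY₀ : X ≤ normalizer (Y₀ : Set Γ) := by
    refine le_normalizer_iff.2 fun k hk z hz => ?_
    suffices h : Y₀ ≤ Y₀.comap (MulAut.conj k).toMonoidHom from h hz
    rw [hY₀, closure_le]
    rintro _ ⟨x, hx, w, hw, hcw, rfl⟩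
    refine subset_closure ⟨k * x, X.mul_mem hk hx, w, hw, hcw, ?_⟩
    show k * (x * w * x⁻¹) * k⁻¹ = _
    group
  have hcY₀ : c ∈ normalizer (Y₀ : Set Γ) := by
    refine CfsgLib.Coprime.mem_normalizer_of_forall_conj fun z hz => ?_
    suffices h : Y₀ ≤ Y₀.comap (MulAut.conj c).toMonoidHom from h hz
    rw [hY₀, closure_le]
    rintro _ ⟨x, hx, w, hw, hcw, rfl⟩
    refine subset_closure ⟨c * x * c⁻¹, CfsgLib.Coprime.mem_normalizer_conj (hXA hc) hx, w, hw, hcw, ?_⟩
    show c * (x * w * x⁻¹) * c⁻¹ = _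
    calc c * (x * w * x⁻¹) * c⁻¹ = c * x * c⁻¹ * (c * w * c⁻¹) * (c * x * c⁻¹)⁻¹ := by group
      _ = _ := by rw [hcw.eq, mul_inv_cancel_right]
  set M := Y₀ ⊔ ⁅Y, Y⁆ with hM
  have hMY : M ≤ Y := sup_le hY₀Y (CfsgLib.Coprime.commutator_le_of_normalizes Subgroup.le_normalizer)
  refine eq_of_sup_commutator hYr hY₀Y ?_
  -- it is enough to show that `X` centralizes `Y / M`
  set L := normalizer (Y : Set Γ) ⊓ normalizer (M : Set Γ) with hL
  have hXL : X ≤ L := le_inf hXY (le_normalizer_sup hXY₀ (le_normalizer_commutator hXY hXY))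
  have hcL : c ∈ L := ⟨hYA hc, le_normalizer_sup (K := zpowers c) (zpowers_le.2 hcY₀)
    (le_normalizer_commutator (zpowers_le.2 (hYA hc)) (zpowers_le.2 (hYA hc))) (mem_zpowers c)⟩
  haveI hMn : (M.subgroupOf Y).Normal := by
    refine Normal.of_commutator_le (h := ?_)
    rw [commutator_def, ← map_subtype_le_map_subtype, map_commutator, map_subgroupOf_eq_of_le hMY,
      ← MonoidHom.range_eq_map, range_subtype]
    exact le_sup_right
  letI : CommGroup (Y ⧸ M.subgroupOf Y) :=
    { (inferInstance : Group (Y ⧸ M.subgroupOf Y)) with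
      mul_comm := by
        intro u v
        obtain ⟨u, rfl⟩ := QuotientGroup.mk'_surjective _ u
        obtain ⟨v, rfl⟩ := QuotientGroup.mk'_surjective _ v
        rw [← map_mul, ← map_mul]
        refine QuotientGroup.eq.2 (mem_subgroupOf.2 ?_)
        have e : ((u * v)⁻¹ * (v * u) : Y) = ⁅v⁻¹, u⁻¹⁆ := by simp [commutatorElement_def, mul_assoc]
        rw [e]
        exact mem_sup_right (commutator_mem_commutator (inv_mem v.2) (inv_mem u.2)) }
  let conjY : L → (Y →* Y) := fun g =>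
    { toFun := fun v => ⟨(g : Γ) * v * (g : Γ)⁻¹, CfsgLib.Coprime.mem_normalizer_conj g.2.1 v.2⟩
      map_one' := Subtype.ext (by simp)
      map_mul' := fun u v => Subtype.ext (by simp [mul_assoc]) }
  let ψ₀ : L → (Y ⧸ M.subgroupOf Y →* Y ⧸ M.subgroupOf Y) := fun g =>
    QuotientGroup.map _ _ (conjY g) fun v hv =>
      CfsgLib.Coprime.mem_normalizer_conj g.2.2 hv
  have hψmk : ∀ (g : L) (v : Y), ψ₀ g (QuotientGroup.mk' _ v) = QuotientGroup.mk' _ (conjY g v) :=
    fun g v => rfl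
  have hψ₀mul : ∀ g h u, ψ₀ (g * h) u = ψ₀ g (ψ₀ h u) := by
    intro g h u
    obtain ⟨v, rfl⟩ := QuotientGroup.mk'_surjective _ u
    rw [hψmk, hψmk, hψmk]
    exact congrArg _ (Subtype.ext (by simp [conjY, mul_assoc]))
  have hψ₀one : ∀ u, ψ₀ 1 u = u := by
    intro u
    obtain ⟨v, rfl⟩ := QuotientGroup.mk'_surjective _ u
    rw [hψmk]
    exact congrArg _ (Subtype.ext (by simp [conjY]))
  let ψ : L →* MulAut (Y ⧸ M.subgroupOf Y) :=
    { toFun := fun g =>
        { toFun := ψ₀ g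
          invFun := ψ₀ g⁻¹
          left_inv := fun u => by rw [← hψ₀mul, inv_mul_cancel, hψ₀one]
          right_inv := fun u => by rw [← hψ₀mul, mul_inv_cancel, hψ₀one]
          map_mul' := map_mul (ψ₀ g) }
      map_one' := MulEquiv.ext hψ₀one
      map_mul' := fun g h => MulEquiv.ext (hψ₀mul g h) }
  have hψ : ∀ (g : L) (v : Y), ψ g (QuotientGroup.mk' _ v) = QuotientGroup.mk' _ (conjY g v) :=
    fun g v => rfl
  have hX1 : ∀ x ∈ X, ∀ v ∈ Y, x * v * x⁻¹ * v⁻¹ ∈ M := by
    intro x hx v hv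
    have hf : ψ ⟨x, hXL hx⟩ = 1 := by
      refine frobenius_trivial ψ (X.subgroupOf L) ⟨c, hcL⟩ S.prime.pos
        (Subtype.ext (by simpa using S.elemAb.2 c hc))
        (fun z hz => mem_subgroupOf.2 (CfsgLib.Coprime.mem_normalizer_conj (hXA hc) (mem_subgroupOf.1 hz)))
        (fun z hz i hi0 hi he => ?_) (fun u hu => ?_) ?_ (mem_subgroupOf.2 hx)
      · have he' : c ^ i * (z : Γ) * (c ^ i)⁻¹ = (z : Γ) := by simpa using congrArg Subtype.val he
        exact Subtype.ext (S.eq_one_of_commute_two ha ha1 (pow_mem hc i) (S.pow_not_mem hc hca hi0 hi)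
          (hX (mem_subgroupOf.1 hz)) (hXa _ (mem_subgroupOf.1 hz)) (mul_inv_eq_iff_eq_mul.1 he'))
      · obtain ⟨v, rfl⟩ := QuotientGroup.mk'_surjective _ u
        rw [hψ] at hu
        have hmem : c * (v : Γ)⁻¹ * c⁻¹ * v ∈ M := by
          have h1 := mem_subgroupOf.1 (QuotientGroup.eq.1 hu)
          simpa [conjY, mul_assoc] using h1
        obtain ⟨w, hw, hwM⟩ := CfsgLib.Coprime.exists_centralizing_rep (zpowers c) Y
          (zpowers_le.2 (hYA hc)) ((S.coprime_card hY).coprime_dvd_left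
            (card_dvd_of_le (zpowers_le.2 hc))) (Or.inr (by
              haveI := hYr.isNilpotent
              infer_instance)) M hMY (zpowers_le.2 hcL.2) v.2 (fun b hb => by
            have hfix' : c * (v : Γ) * c⁻¹ * (v : Γ)⁻¹ ∈ M := by
              have h1 := M.inv_mem hmem
              have h2 := CfsgLib.Coprime.mem_normalizer_conj
                ((normal_subgroupOf_iff_le_normalizer hMY).1 hMn v.2) h1
              simpa [mul_assoc] using h2
            rw [← (isOfFinOrder_of_finite c).mem_powers_iff_mem_zpowers] at hb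
            obtain ⟨n, rfl⟩ := hb
            beta_reduce
            induction n with
            | zero => simp
            | succ n ih =>
              have h3 := CfsgLib.Coprime.mem_normalizer_conj hcL.2 ih
              have h4 : (v : Γ)⁻¹ * (c * v * c⁻¹) ∈ M := by
                have := CfsgLib.Coprime.mem_normalizer_conj'
                  ((normal_subgroupOf_iff_le_normalizer hMY).1 hMn v.2) hfix'
                simpa [mul_assoc] using this
              have e : (v : Γ)⁻¹ * (c ^ (n + 1) * v * (c ^ (n + 1))⁻¹) =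
                  ((v : Γ)⁻¹ * (c * v * c⁻¹)) * (c * ((v : Γ)⁻¹ * (c ^ n * v * (c ^ n)⁻¹)) * c⁻¹) := by
                rw [pow_succ']; group
              rw [e]
              exact M.mul_mem h4 h3)
        have hcw : Commute c w := (mem_centralizer_iff.1 hw.2 c (mem_zpowers c))
        have hwM' : w ∈ M := mem_sup_left (subset_closure ⟨1, one_mem X, w, hw.1, hcw, by simp⟩)
        refine (QuotientGroup.eq_one_iff v).2 (mem_subgroupOf.2 ?_)
        have h5 := M.mul_mem hwM' (M.inv_mem hwM)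
        simpa [mul_assoc] using h5
      · rw [CfsgLib.Coprime.card_subgroupOf hXL]
        exact hcop.coprime_dvd_right (card_quotient_dvd_card _)
    have h1 := congrArg (fun e : MulAut _ => e (QuotientGroup.mk' _ ⟨v, hv⟩)) hf
    simp only [hψ] at h1
    have h2 := mem_subgroupOf.1 (QuotientGroup.eq.1 h1.symm)
    have h3 : v⁻¹ * (x * v * x⁻¹) ∈ M := by simpa [conjY] using h2
    have h4 := CfsgLib.Coprime.mem_normalizer_conj
      ((normal_subgroupOf_iff_le_normalizer hMY).1 hMn hv) h3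
    simpa [mul_assoc] using h4
  conv_lhs => rw [← hcomm]
  rw [commutator_le]
  intro v hv x hx
  have e : ⁅v, x⁆ = (x * v * x⁻¹ * v⁻¹)⁻¹ := by rw [commutatorElement_def]; group
  rw [e]
  exact M.inv_mem (hX1 x hx v hv)

end Setup

end CfsgLib.QSq
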