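import Cfsg.Agent.Lib.QSquared.Derived
import Cfsg.Agent.Lib.PCore.PSolvable
import Cfsg.Agent.Lib.LocalEven.CharP
import Cfsg.Agent.Lib.Characters.Burnside

/-! Invariant `{p, r}`-subgroups. -/

set_option autoImplicit false
set_option linter.style.haveILetI false
set_option linter.unusedSectionVars false

open scoped commutatorElement
open Subgroup

namespace CfsgLib.QSq

variable {Γ : Type*} [Group Γ]

/-- An invariant `{p, r}`-subgroup `L = P Q`. -/
structure Duo (A G : Subgroup Γ) (p r : ℕ) (L P Q : Subgroup Γ) : Prop where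
  le : L ≤ G
  invL : A ≤ normalizer (L : Set Γ)
  invP : A ≤ normalizer (P : Set Γ)
  invQ : A ≤ normalizer (Q : Set Γ)
  leP : P ≤ L
  leQ : Q ≤ L
  pP : IsPGroup p P
  rQ : IsPGroup r Q
  mul : ∀ x ∈ L, ∃ u ∈ P, ∃ v ∈ Q, u * v = x

theorem Duo.symm {A G : Subgroup Γ} {p r : ℕ} {L P Q : Subgroup Γ} (D : Duo A G p r L P Q) :
    Duo A G r p L Q P := by
  refine ⟨D.le, D.invL, D.invQ, D.invP, D.leQ, D.leP, D.rQ, D.pP, fun x hx => ?_⟩
  obtain ⟨u, hu, v, hv, h⟩ := D.mul x⁻¹ (inv_mem hx)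
  exact ⟨v⁻¹, inv_mem hv, u⁻¹, inv_mem hu, by rw [← mul_inv_rev, h, inv_inv]⟩

variable [Finite Γ]

theorem disjoint_of_pGroups {p r : ℕ} [Fact p.Prime] [Fact r.Prime] (hpr : p ≠ r)
    {X Y : Subgroup Γ} (hX : IsPGroup p X) (hY : IsPGroup r Y) : X ⊓ Y = ⊥ :=
  Subgroup.inf_eq_bot_of_coprime (IsPGroup.coprime_card_of_ne p r hpr X Y hX hY)

theorem coprime_orderOf {p r : ℕ} [Fact p.Prime] [Fact r.Prime] (hpr : p ≠ r)
    {X Y : Subgroup Γ} (hX : IsPGroup p X) (hY : IsPGroup r Y) {x y : Γ} (hx : x ∈ X) (hy : y ∈ Y) :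
    (orderOf x).Coprime (orderOf y) := by
  have h := IsPGroup.coprime_card_of_ne p r hpr X Y hX hY
  exact (h.coprime_dvd_left (Subgroup.orderOf_dvd_natCard X hx)).coprime_dvd_right
    (Subgroup.orderOf_dvd_natCard Y hy)

namespace Duo

variable {A G L P Q : Subgroup Γ} {p r : ℕ} [hp : Fact p.Prime] [hr : Fact r.Prime]
  (D : Duo A G p r L P Q)
include D

theorem card_eq (hpr : p ≠ r) : Nat.card L = Nat.card P * Nat.card Q := by
  rw [← Nat.card_prod]
  refine (Nat.card_eq_of_bijective (fun z : P × Q =>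
    (⟨(z.1 : Γ) * z.2, L.mul_mem (D.leP z.1.2) (D.leQ z.2.2)⟩ : L)) ⟨?_, ?_⟩).symm
  · intro z w h
    exact Subgroup.mul_injective_of_disjoint (disjoint_iff.2 (disjoint_of_pGroups hpr D.pP D.rQ))
      (congrArg Subtype.val h)
  · rintro ⟨x, hx⟩
    obtain ⟨u, hu, v, hv, rfl⟩ := D.mul x hx
    exact ⟨(⟨u, hu⟩, ⟨v, hv⟩), rfl⟩

theorem pCoreOf_le (hpr : p ≠ r) : Cfsg.pCoreOf p L ≤ P := by
  set U := Cfsg.pCoreOf p L with hU
  have hUL : U ≤ L := CfsgLib.LocalEvenCharP.pCoreOf_le p L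
  have hPU : P ≤ normalizer (U : Set Γ) :=
    D.leP.trans (CfsgLib.LocalEvenCharP.le_normalizer_pCoreOf p L)
  intro x hx
  obtain ⟨u, hu, v, hv, rfl⟩ := D.mul x (hUL hx)
  have hp' : IsPGroup p ↥(P ⊔ U) :=
    IsPGroup.to_sup_of_normal_right' D.pP (CfsgLib.LocalEvenCharP.isPGroup_pCoreOf p L) hPU
  have hv' : v ∈ (P ⊔ U) ⊓ Q := by
    refine ⟨?_, hv⟩
    have h := mul_mem (mem_sup_left (inv_mem hu) : u⁻¹ ∈ P ⊔ U) (mem_sup_right hx)
    rwa [inv_mul_cancel_left] at h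
  rw [disjoint_of_pGroups hpr hp' D.rQ, mem_bot] at hv'
  rwa [hv', mul_one]

theorem inv_pCoreOf : A ≤ normalizer (Cfsg.pCoreOf p L : Set Γ) := by
  refine le_normalizer_iff.2 fun b hb x hx => ?_
  set U := Cfsg.pCoreOf p L with hU
  have hUL : U ≤ L := CfsgLib.LocalEvenCharP.pCoreOf_le p L
  have hle : U.map (MulAut.conj b : Γ →* Γ) ≤ U := by
    refine CfsgLib.LocalEvenCharP.le_pCoreOf ?_ ?_ ((CfsgLib.LocalEvenCharP.isPGroup_pCoreOf p L).map _)
    · rintro _ ⟨z, hz, rfl⟩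
      exact CfsgLib.Coprime.mem_normalizer_conj (D.invL hb) (hUL hz)
    · refine le_normalizer_iff.2 fun l hl z hz => ?_
      obtain ⟨z, hz, rfl⟩ := hz
      refine ⟨b⁻¹ * l * b * z * (b⁻¹ * l * b)⁻¹, ?_, ?_⟩
      · exact CfsgLib.Coprime.mem_normalizer_conj (CfsgLib.LocalEvenCharP.le_normalizer_pCoreOf p L
          (CfsgLib.Coprime.mem_normalizer_conj' (D.invL hb) hl)) hz
      · show b * (b⁻¹ * l * b * z * (b⁻¹ * l * b)⁻¹) * b⁻¹ = l * (b * z * b⁻¹) * l⁻¹
        group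
  exact hle ⟨x, hx, rfl⟩

theorem isSolvable (hpr : p ≠ r) : Group.IsSolvable L := by
  obtain ⟨i, hi⟩ := IsPGroup.iff_card.1 D.pP
  obtain ⟨j, hj⟩ := IsPGroup.iff_card.1 D.rQ
  exact CfsgLib.Burnside.isSolvable_of_card_eq hp.out hr.out i j (by rw [D.card_eq hpr, hi, hj])

theorem mul_mem_symm {x : Γ} (hx : x ∈ L) : ∃ v ∈ Q, ∃ u ∈ P, v * u = x := D.symm.mul x hx

/-- In a `{p, r}`-group the centralizer of `O_r` has its `p`-part in `O_p`. -/
theorem inf_centralizer_le {q : ℕ} (S : Setup q A G) (hpr : p ≠ r) :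
    P ⊓ centralizer (Cfsg.pCoreOf r L : Set Γ) ≤ Cfsg.pCoreOf p L := by
  set U := Cfsg.pCoreOf p L with hU
  set R := Cfsg.pCoreOf r L with hR
  have hUL : U ≤ L := CfsgLib.LocalEvenCharP.pCoreOf_le p L
  have hRL : R ≤ L := CfsgLib.LocalEvenCharP.pCoreOf_le r L
  have hUn : L ≤ normalizer (U : Set Γ) := CfsgLib.LocalEvenCharP.le_normalizer_pCoreOf p L
  have hRn : L ≤ normalizer (R : Set Γ) := CfsgLib.LocalEvenCharP.le_normalizer_pCoreOf r L
  have hUp : IsPGroup p U := CfsgLib.LocalEvenCharP.isPGroup_pCoreOf p L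
  have hRr : IsPGroup r R := CfsgLib.LocalEvenCharP.isPGroup_pCoreOf r L
  have hUP : U ≤ P := D.pCoreOf_le hpr
  have hRQ : R ≤ Q := D.symm.pCoreOf_le (Ne.symm hpr)
  have hUA : A ≤ normalizer (U : Set Γ) := D.inv_pCoreOf
  have hRA : A ≤ normalizer (R : Set Γ) := D.symm.inv_pCoreOf
  -- `O_r(L / U)`
  haveI hUnn : (U.subgroupOf L).Normal := normal_subgroupOf_of_le_normalizer hUn
  set f := QuotientGroup.mk' (U.subgroupOf L) with hf
  set O := Cfsg.pCore r (L ⧸ U.subgroupOf L) with hO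
  set E := (O.comap f).map L.subtype with hE
  have hEL : E ≤ L := map_subtype_le _
  have hmemE : ∀ x (hx : x ∈ L), x ∈ E ↔ f ⟨x, hx⟩ ∈ O := by
    intro x hx
    constructor
    · rintro ⟨y, hy, hyx⟩
      have : y = ⟨x, hx⟩ := Subtype.ext hyx
      exact this ▸ hy
    · exact fun h => ⟨⟨x, hx⟩, h, rfl⟩
  have hfU : ∀ x (hx : x ∈ L), f ⟨x, hx⟩ = 1 ↔ x ∈ U := fun x hx =>
    (QuotientGroup.eq_one_iff _).trans mem_subgroupOf
  have hUE : U ≤ E := fun x hx => (hmemE x (hUL hx)).2 (by rw [(hfU x _).2 hx]; exact one_mem _)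
  have hOn : O.Normal := Cfsg.pCore_normal r _
  have hLE : L ≤ normalizer (E : Set Γ) := le_normalizer_iff.2 fun l hl x hx =>
    (hmemE _ (L.mul_mem (L.mul_mem hl (hEL hx)) (L.inv_mem hl))).2
      (hOn.conj_mem _ ((hmemE x (hEL hx)).1 hx) (f ⟨l, hl⟩))
  have hEA : A ≤ normalizer (E : Set Γ) := by
    refine le_normalizer_iff.2 fun b hb x hx => ?_
    set E' := E.map (MulAut.conj b : Γ →* Γ) with hE'
    have hE'L : E' ≤ L := by
      rintro _ ⟨z, hz, rfl⟩
      exact CfsgLib.Coprime.mem_normalizer_conj (D.invL hb) (hEL hz)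
    have hn : (E'.subgroupOf L).Normal := normal_subgroupOf_of_le_normalizer <| by
      refine le_normalizer_iff.2 fun l hl z hz => ?_
      obtain ⟨z, hz, rfl⟩ := hz
      refine ⟨b⁻¹ * l * b * z * (b⁻¹ * l * b)⁻¹, ?_, ?_⟩
      · exact CfsgLib.Coprime.mem_normalizer_conj
          (hLE (CfsgLib.Coprime.mem_normalizer_conj' (D.invL hb) hl)) hz
      · show b * (b⁻¹ * l * b * z * (b⁻¹ * l * b)⁻¹) * b⁻¹ = l * (b * z * b⁻¹) * l⁻¹
        group
    have hr' : IsPGroup r ((E'.subgroupOf L).map f) := by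
      rintro ⟨_, ⟨z, hzL⟩, hz, rfl⟩
      obtain ⟨w, hw, hwz⟩ := mem_subgroupOf.1 hz
      obtain ⟨k, hk⟩ := (CfsgLib.LocalEvenCharP.isPGroup_pCore r (L ⧸ U.subgroupOf L))
        ⟨_, (hmemE w (hEL hw)).1 hw⟩
      refine ⟨k, Subtype.ext ?_⟩
      have h1 : w ^ r ^ k ∈ U := by
        rw [← hfU _ (pow_mem (hEL hw) _)]
        have h2 := congrArg Subtype.val hk
        simp only [SubmonoidClass.coe_pow, OneMemClass.coe_one] at h2
        rw [← map_pow] at h2
        exact h2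
      show (f ⟨z, hzL⟩) ^ r ^ k = 1
      rw [← map_pow]
      show f ⟨z ^ r ^ k, pow_mem hzL _⟩ = 1
      rw [hfU]
      have hwz' : b * w * b⁻¹ = z := hwz
      rw [← hwz', conj_pow]
      exact CfsgLib.Coprime.mem_normalizer_conj (hUA hb) h1
    have h3 : b * x * b⁻¹ ∈ E' := ⟨x, hx, rfl⟩
    exact (hmemE _ (hE'L h3)).2 (CfsgLib.PCore.le_pCore (hn.map f (QuotientGroup.mk'_surjective _)) hr'
      ⟨⟨_, hE'L h3⟩, mem_subgroupOf.2 h3, rfl⟩)
  set T := E ⊓ Q with hT
  have hTQ : T ≤ Q := inf_le_right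
  have hTL : T ≤ L := inf_le_left.trans hEL
  have hTr : IsPGroup r T := D.rQ.to_le hTQ
  have hTA : A ≤ normalizer (T : Set Γ) := le_normalizer_inf hEA D.invQ
  have hpr' : ∀ x (hx : x ∈ L), x ∈ P → f ⟨x, hx⟩ ∈ O ⊔ (Q.subgroupOf L).map f → x ∈ U := by
    intro x hx hxP h
    rw [← hfU x hx]
    have hq' : IsPGroup r ↥(O ⊔ (Q.subgroupOf L).map f) :=
      IsPGroup.to_sup_of_normal_left (CfsgLib.LocalEvenCharP.isPGroup_pCore r _)
        (D.rQ.comap_subtype.map f)
    have hp' : IsPGroup p ↥((P.subgroupOf L).map f) := D.pP.comap_subtype.map f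
    have h0 : f ⟨x, hx⟩ ∈ (P.subgroupOf L).map f := ⟨⟨x, hx⟩, mem_subgroupOf.2 hxP, rfl⟩
    have h' := mem_inf.2 ⟨h0, h⟩
    rwa [Subgroup.inf_eq_bot_of_coprime (IsPGroup.coprime_card_of_ne p r hpr _ _ hp' hq'), mem_bot] at h'
  have hEdec : ∀ x ∈ E, ∃ u ∈ U, ∃ t ∈ T, u * t = x := by
    intro x hx
    obtain ⟨u, hu, v, hv, rfl⟩ := D.mul x (hEL hx)
    have huU : u ∈ U := by
      refine hpr' u (D.leP hu) hu ?_
      have h1 := mul_mem (mem_sup_left ((hmemE _ (hEL hx)).1 hx) :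
          f ⟨u * v, hEL hx⟩ ∈ O ⊔ (Q.subgroupOf L).map f)
        (inv_mem (mem_sup_right ⟨⟨v, D.leQ hv⟩, mem_subgroupOf.2 hv, rfl⟩ :
          f ⟨v, D.leQ hv⟩ ∈ O ⊔ (Q.subgroupOf L).map f))
      rw [← map_inv, ← map_mul] at h1
      convert h1 using 2
      exact Subtype.ext (by simp)
    refine ⟨u, huU, v, ⟨?_, hv⟩, rfl⟩
    have h := E.mul_mem (E.inv_mem (hUE huU)) hx
    rwa [inv_mul_cancel_left] at h
  have hRE : R ≤ E := by
    intro x hx
    refine (hmemE x (hRL hx)).2 (CfsgLib.PCore.le_pCore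
      (Normal.map (normal_subgroupOf_of_le_normalizer hRn) f (QuotientGroup.mk'_surjective _))
      (hRr.comap_subtype.map f) ⟨⟨x, hRL hx⟩, mem_subgroupOf.2 hx, rfl⟩)
  -- `C_T(U) ≤ R`
  have hTU : T ≤ normalizer (U : Set Γ) := hTL.trans hUn
  have hN₀ : T ⊓ centralizer (U : Set Γ) ≤ R := by
    set N₀ := T ⊓ centralizer (U : Set Γ) with hN₀
    refine CfsgLib.LocalEvenCharP.le_pCoreOf (inf_le_left.trans hTL) ?_ (hTr.to_le inf_le_left)
    refine le_normalizer_iff.2 fun l hl n hn => ?_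
    have hcU : l * n * l⁻¹ ∈ centralizer (U : Set Γ) :=
      CfsgLib.Coprime.mem_normalizer_conj (le_normalizer_centralizer hUn hl) hn.2
    have hE' : l * n * l⁻¹ ∈ E := CfsgLib.Coprime.mem_normalizer_conj (hLE hl) hn.1.1
    obtain ⟨u, hu, t, ht, he⟩ := hEdec _ hE'
    obtain ⟨huc, htc⟩ := mem_centralizer_of_mul (W := U) (Subgroup.le_normalizer hu) (hTU ht)
      (coprime_orderOf hpr hUp hTr hu ht) (he ▸ hcU)
    have hut : Commute u t := mem_centralizer_iff.1 htc u hu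
    obtain ⟨k, hk⟩ := hTr ⟨n, hn.1⟩
    obtain ⟨k', hk'⟩ := hTr ⟨t, ht⟩
    have hk1 : n ^ r ^ k = 1 := by simpa using congrArg Subtype.val hk
    have hk2 : t ^ r ^ k' = 1 := by simpa using congrArg Subtype.val hk'
    have h1 : u ^ r ^ (k + k') = 1 := by
      have h2 : (u * t) ^ r ^ (k + k') = 1 := by
        rw [he, conj_pow, pow_add, pow_mul, hk1, one_pow, mul_one, mul_inv_cancel]
      rw [hut.mul_pow, pow_add r k k', mul_comm, pow_mul t, hk2, one_pow, mul_one] at h2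
      rw [pow_add r k k', mul_comm]
      exact h2
    have hu1 : u = 1 := by
      obtain ⟨j, hj⟩ := hUp ⟨u, hu⟩
      have hj1 : u ^ p ^ j = 1 := by simpa using congrArg Subtype.val hj
      exact orderOf_eq_one_iff.1 (Nat.eq_one_of_dvd_coprimes
        ((((Nat.coprime_primes hp.out hr.out).2 hpr).pow j (k + k')))
        (orderOf_dvd_of_pow_eq_one hj1) (orderOf_dvd_of_pow_eq_one h1))
    rw [hu1, one_mul] at he
    rw [← he]
    exact ⟨ht, htc⟩
  set M := U ⊔ R with hM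
  have hMn : L ≤ normalizer (M : Set Γ) := le_normalizer_sup hUn hRn
  have hMA : A ≤ normalizer (M : Set Γ) := le_normalizer_sup hUA hRA
  have hUG : U ≤ G := hUL.trans D.le
  have hTG : T ≤ G := hTL.trans D.le
  have hT' : ⁅T, T⁆ ≤ centralizer (U : Set Γ) :=
    S.commutator_le_centralizer (Ne.symm hpr) hTG hTA hTr hUG hUA hUp hTU
  set W : Γ → Subgroup Γ := fun e => ⁅U, T ⊓ centralizer ({e} : Set Γ)⁆ with hW
  have hWU : ∀ e, W e ≤ U := fun e =>
    CfsgLib.Coprime.commutator_le_of_normalizes (inf_le_left.trans hTU)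
  have hf1 : ∀ e ∈ A, e ≠ 1 → ∀ d ∈ A, d ∉ zpowers e →
      T ⊓ centralizer ({d} : Set Γ) ≤ centralizer (W e : Set Γ) := by
    intro e he he1 d hd hde y hy
    refine S.mem_centralizer_commutator (X := T ⊓ centralizer ({e} : Set Γ)) he he1 hd hde
      (Ne.symm hpr) (inf_le_left.trans hTG) (S.le_normalizer_fix he hTA) (hTr.to_le inf_le_left)
      (fun x hx => mem_centralizer_iff_commute.1 hx.2) hUG hUA hUp (inf_le_left.trans hTU)
      (hTG hy.1) (mem_centralizer_iff_commute.1 hy.2) fun x hx => hT' ?_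
    have e' : y⁻¹ * (x⁻¹ * y * x) = ⁅y⁻¹, x⁻¹⁆ := by rw [commutatorElement_def]; group
    rw [e']
    exact commutator_mem_commutator (inv_mem hy.1) (inv_mem hx.1)
  have hTW : ∀ e ∈ A, e ≠ 1 → T ≤ normalizer (W e : Set Γ) := by
    intro e he he1
    refine S.le_of_forall_fix hTG hTA fun d hd hd1 => ?_
    by_cases hde : d ∈ zpowers e
    · rw [S.fix_eq he he1 hde hd1]
      exact CfsgLib.Coprime.le_normalizer_commutator_right _ _
    · exact (hf1 e he he1 d hd hde).trans (centralizer_le_normalizer _)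
  have hEW : ∀ e ∈ A, e ≠ 1 → E ≤ normalizer (W e : Set Γ) := by
    intro e he he1 x hx
    obtain ⟨u, hu, t, ht, rfl⟩ := hEdec x hx
    exact mul_mem (CfsgLib.Coprime.le_normalizer_commutator_left _ _ hu) (hTW e he he1 ht)
  -- the key congruence
  have key : ∀ a ∈ A, a ≠ 1 →
      ∀ y ∈ P ⊓ centralizer (R : Set Γ) ⊓ centralizer ({a} : Set Γ), ∀ t ∈ T,
        y * t * y⁻¹ * t⁻¹ ∈ M := by
    intro a ha ha1
    set Pa := P ⊓ centralizer (R : Set Γ) ⊓ centralizer ({a} : Set Γ) with hPa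
    have hPaL : Pa ≤ L := (inf_le_left.trans inf_le_left).trans D.leP
    have hPaA : A ≤ normalizer (Pa : Set Γ) :=
      S.le_normalizer_fix ha (le_normalizer_inf D.invP (le_normalizer_centralizer hRA))
    have hcomm : ∀ y ∈ Pa, ∀ x ∈ G, Commute a x → Commute y x := fun y hy x hx hax =>
      S.abelian a ha ha1 y (D.le (hPaL hy)) x hx (mem_centralizer_iff_commute.1 hy.2) hax
    have hyW : ∀ y ∈ Pa, ∀ e ∈ A, e ≠ 1 → y ∈ normalizer (W e : Set Γ) := by
      intro y hy e he he1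
      refine CfsgLib.Coprime.mem_normalizer_of_forall_conj ?_
      by_cases hea : e ∈ zpowers a
      · intro z hz
        have hx' : y ∈ normalizer ((T ⊓ centralizer ({e} : Set Γ) : Subgroup Γ) : Set Γ) :=
          centralizer_le_normalizer _ (mem_centralizer_iff.2 fun x hx => (hcomm y hy x (hTG hx.1)
            (Setup.commute_of_mem_zpowers (S.mem_zpowers_symm ha ha1 hea he1)
              (mem_centralizer_iff_commute.1 hx.2))).symm.eq)
        exact CfsgLib.Coprime.mem_normalizer_conj (le_normalizer_commutator (K := zpowers y)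
          (zpowers_le.2 (hUn (hPaL hy))) (zpowers_le.2 hx') (mem_zpowers y)) hz
      · have hae : a ∉ zpowers e := S.not_mem_zpowers_symm ha ha1 he he1 hea
        set X := T ⊓ centralizer ({e} : Set Γ) with hX
        have hXU : X ≤ normalizer (U : Set Γ) := inf_le_left.trans hTU
        have hcop : (Nat.card X).Coprime (Nat.card U) :=
          IsPGroup.coprime_card_of_ne r p (Ne.symm hpr) X U (hTr.to_le inf_le_left) hUp
        haveI : Group.IsNilpotent U := hUp.isNilpotent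
        have hle : W e ≤ (W e).comap (MulAut.conj y).toMonoidHom := by
          refine S.le_of_generation he he1 ha hae (inf_le_left.trans hTG) (S.le_normalizer_fix he hTA)
            (fun x hx => mem_centralizer_iff_commute.1 hx.2) ((hWU e).trans hUG)
            (le_normalizer_commutator hUA (S.le_normalizer_fix he hTA)) (hUp.to_le (hWU e))
            (CfsgLib.Coprime.le_normalizer_commutator_right _ _)
            (hcop.coprime_dvd_right (card_dvd_of_le (hWU e)))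
            (CfsgLib.Coprime.commutator_commutator_eq X U hXU hcop (Or.inr inferInstance)) ?_
          intro x hx w hw haw
          show y * (x * w * x⁻¹) * y⁻¹ ∈ W e
          have hyw : Commute y w := hcomm y hy w (hUG (hWU e hw)) haw
          have e1 : y * (x * w * x⁻¹) * y⁻¹ = (y * x * y⁻¹) * (y * w * y⁻¹) * (y * x * y⁻¹)⁻¹ := by
            group
          rw [e1, hyw.eq, mul_inv_cancel_right]
          exact CfsgLib.Coprime.mem_normalizer_conj
            (hEW e he he1 (CfsgLib.Coprime.mem_normalizer_conj (hLE (hPaL hy)) hx.1.1)) hw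
        exact fun z hz => hle hz
    intro y₀ hy₀
    -- reduce to fixed points
    set Sy : Subgroup Γ :=
      { carrier := {t | t ∈ L ∧ y₀ * t * y₀⁻¹ * t⁻¹ ∈ M}
        one_mem' := ⟨one_mem L, by simp⟩
        mul_mem' := by
          rintro u v ⟨hu, hu'⟩ ⟨hv, hv'⟩
          refine ⟨L.mul_mem hu hv, ?_⟩
          have e : y₀ * (u * v) * y₀⁻¹ * (u * v)⁻¹ =
              (y₀ * u * y₀⁻¹ * u⁻¹) * (u * (y₀ * v * y₀⁻¹ * v⁻¹) * u⁻¹) := by group
          rw [e]
          exact M.mul_mem hu' (CfsgLib.Coprime.mem_normalizer_conj (hMn hu) hv')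
        inv_mem' := by
          rintro u ⟨hu, hu'⟩
          refine ⟨L.inv_mem hu, ?_⟩
          have e : y₀ * u⁻¹ * y₀⁻¹ * u⁻¹⁻¹ = u⁻¹ * (y₀ * u * y₀⁻¹ * u⁻¹)⁻¹ * u⁻¹⁻¹ := by group
          rw [e]
          exact CfsgLib.Coprime.mem_normalizer_conj (hMn (L.inv_mem hu)) (M.inv_mem hu') } with hSy
    suffices h : T ≤ Sy from fun t ht => (h ht).2
    refine S.le_of_forall_fix hTG hTA fun c hc hc1 => ?_
    intro t ht
    refine ⟨hTL ht.1, ?_⟩
    by_cases hca : c ∈ zpowers a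
    · have hat : Commute a t := Setup.commute_of_mem_zpowers (S.mem_zpowers_symm ha ha1 hca hc1)
        (mem_centralizer_iff_commute.1 ht.2)
      rw [(hcomm y₀ hy₀ t (hTG ht.1) hat).eq, mul_inv_cancel_right, mul_inv_cancel]
      exact one_mem _
    -- `c` moves everything
    have hdec : ∀ y ∈ Pa, c * (y * t * y⁻¹) * c⁻¹ * (y * t * y⁻¹)⁻¹ ∈ M := by
      intro y hy
      have hE' : y * t * y⁻¹ ∈ E := CfsgLib.Coprime.mem_normalizer_conj (hLE (hPaL hy)) ht.1.1
      obtain ⟨u, hu, t', ht', he⟩ := hEdec _ hE'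
      have ht'W : ∀ e ∈ A, e ≠ 1 → e ∉ zpowers c → t' ∈ centralizer (W e : Set Γ) := by
        intro e he' he1 hec
        have htc : t ∈ centralizer (W e : Set Γ) :=
          hf1 e he' he1 c hc (S.not_mem_zpowers_symm hc hc1 he' he1 hec) ht
        have h' : y * t * y⁻¹ ∈ centralizer (W e : Set Γ) :=
          CfsgLib.Coprime.mem_normalizer_conj (le_normalizer_centralizer (K := zpowers y)
            (zpowers_le.2 (hyW y hy e he' he1)) (mem_zpowers y)) htc
        rw [← he] at h'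
        exact (mem_centralizer_of_mul (CfsgLib.Coprime.le_normalizer_commutator_left _ _ hu)
          (hTW e he' he1 ht') (coprime_orderOf hpr hUp hTr hu ht') h').2
      set K := T ⊓ centralizer (W c : Set Γ) with hK
      have hgenT : T ≤ (T ⊓ centralizer ({c} : Set Γ)) ⊔ K := by
        refine S.le_of_forall_fix hTG hTA fun d hd hd1 => ?_
        by_cases hdc : d ∈ zpowers c
        · rw [S.fix_eq hc hc1 hdc hd1]
          exact le_sup_left
        · exact le_trans (le_inf inf_le_left (hf1 c hc hc1 d hd hdc)) le_sup_right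
      obtain ⟨s, hs, m, hm, rfl⟩ := CfsgLib.Coprime.exists_mul_of_mem_sup
        (inf_le_left.trans (le_normalizer_inf Subgroup.le_normalizer
          (le_normalizer_centralizer (hTW c hc hc1)))) (hgenT ht')
      have hmW : ∀ e ∈ A, e ≠ 1 → m ∈ centralizer (W e : Set Γ) := by
        intro e he' he1
        by_cases hec : e ∈ zpowers c
        · have : W e = W c := by simp only [hW, S.fix_eq hc hc1 hec he1 T]
          rw [this]
          exact hm.2
        · have hs' := hf1 e he' he1 c hc (S.not_mem_zpowers_symm hc hc1 he' he1 hec) hs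
          simpa using Subgroup.mul_mem _ (Subgroup.inv_mem _ hs') (ht'W e he' he1 hec)
      have hmR : m ∈ R := by
        refine hN₀ ⟨hm.1, ?_⟩
        set Z := zpowers m with hZ
        have hZT : Z ≤ T := zpowers_le.2 hm.1
        have hTle : T ≤ centralizer ((⁅U, Z⁆ : Subgroup Γ) : Set Γ) := by
          refine S.le_of_forall_fix hTG hTA fun e he' he1 => ?_
          have h1 : ⁅⁅U, T ⊓ centralizer ({e} : Set Γ)⁆, Z⁆ = ⊥ := by
            rw [Subgroup.commutator_eq_bot_iff_le_centralizer, Subgroup.le_centralizer_iff]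
            exact zpowers_le.2 (hmW e he' he1)
          have h2 : ⁅⁅T ⊓ centralizer ({e} : Set Γ), Z⁆, U⁆ = ⊥ :=
            Subgroup.commutator_eq_bot_iff_le_centralizer.2
              ((commutator_mono inf_le_left hZT).trans hT')
          have h3 : ⁅⁅Z, U⁆, T ⊓ centralizer ({e} : Set Γ)⁆ = ⊥ :=
            Subgroup.commutator_commutator_eq_bot_of_rotate h1 h2
          rw [commutator_comm Z U, Subgroup.commutator_eq_bot_iff_le_centralizer] at h3
          exact Subgroup.le_centralizer_iff.1 h3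
        haveI : Group.IsNilpotent U := hUp.isNilpotent
        have h := CfsgLib.Coprime.commutator_eq_bot_of_commutator_commutator_eq_bot Z U
          (hZT.trans hTU) (IsPGroup.coprime_card_of_ne r p (Ne.symm hpr) Z U (hTr.to_le hZT) hUp)
          (Or.inr inferInstance) (Subgroup.commutator_eq_bot_iff_le_centralizer.2
            (Subgroup.le_centralizer_iff.1 (hZT.trans hTle)))
        rw [Subgroup.commutator_eq_bot_iff_le_centralizer] at h
        exact Subgroup.le_centralizer_iff.1 h (mem_zpowers m)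
      rw [← he]
      have hcs : c * s * c⁻¹ = s := by
        rw [(mem_centralizer_iff_commute.1 hs.2).eq, mul_inv_cancel_right]
      have e1 : c * (u * (s * m)) * c⁻¹ * (u * (s * m))⁻¹ =
          (c * u * c⁻¹) * ((c * s * c⁻¹) * ((c * m * c⁻¹) * m⁻¹) * s⁻¹) * u⁻¹ := by group
      rw [e1, hcs]
      refine M.mul_mem (M.mul_mem (mem_sup_left (CfsgLib.Coprime.mem_normalizer_conj (hUA hc) hu)) ?_)
        (M.inv_mem (mem_sup_left hu))
      exact CfsgLib.Coprime.mem_normalizer_conj (hMn (hTL hs.1))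
        (mem_sup_right (R.mul_mem (CfsgLib.Coprime.mem_normalizer_conj (hRA hc) hmR) (R.inv_mem hmR)))
    let g : Pa → Pa := fun y => ⟨(y : Γ)⁻¹ * (c * y * c⁻¹),
      Pa.mul_mem (Pa.inv_mem y.2) (CfsgLib.Coprime.mem_normalizer_conj (hPaA hc) y.2)⟩
    have hgi : Function.Injective g := by
      intro y w h
      have h' : (y : Γ)⁻¹ * (c * y * c⁻¹) = (w : Γ)⁻¹ * (c * w * c⁻¹) := congrArg Subtype.val h
      have hcw := CfsgLib.Coprime.mem_normalizer_conj (hPaA hc) w.2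
      have hcy := CfsgLib.Coprime.mem_normalizer_conj (hPaA hc) y.2
      have h1 : c * ((y : Γ) * (w : Γ)⁻¹) * c⁻¹ = (y : Γ) * (w : Γ)⁻¹ := by
        calc c * ((y : Γ) * (w : Γ)⁻¹) * c⁻¹
            = (y : Γ) * ((y : Γ)⁻¹ * (c * y * c⁻¹)) * (c * w * c⁻¹)⁻¹ := by group
          _ = (y : Γ) * (w : Γ)⁻¹ := by rw [h']; group
      have h2 := S.eq_one_of_commute_two ha ha1 hc hca
        (D.le (hPaL (Pa.mul_mem y.2 (Pa.inv_mem w.2))))
        (mem_centralizer_iff_commute.1 (Pa.mul_mem y.2 (Pa.inv_mem w.2)).2)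
        (mul_inv_eq_iff_eq_mul.1 h1)
      exact Subtype.ext (mul_inv_eq_one.1 h2)
    obtain ⟨⟨y, hy⟩, hgy⟩ := (Finite.injective_iff_surjective.1 hgi) ⟨y₀, hy₀⟩
    have hy₀' : y⁻¹ * (c * y * c⁻¹) = y₀ := congrArg Subtype.val hgy
    have hct : c * t * c⁻¹ = t := by
      rw [(mem_centralizer_iff_commute.1 ht.2).eq, mul_inv_cancel_right]
    have e2 : y₀ * t * y₀⁻¹ * t⁻¹ =
        y⁻¹ * (c * (y * t * y⁻¹) * c⁻¹ * (y * t * y⁻¹)⁻¹) * y⁻¹⁻¹ := by
      rw [← hy₀']
      calc y⁻¹ * (c * y * c⁻¹) * t * (y⁻¹ * (c * y * c⁻¹))⁻¹ * t⁻¹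
          = y⁻¹ * (c * (y * (c⁻¹ * (c * t * c⁻¹) * c) * y⁻¹) * c⁻¹) * y * t⁻¹ := by
            rw [hct]; group
        _ = _ := by group
    rw [e2]
    exact CfsgLib.Coprime.mem_normalizer_conj (hMn (L.inv_mem (hPaL hy))) (hdec y hy)
  -- conclude in the quotient
  have hsolv : Group.IsSolvable L := D.isSolvable hpr
  have hp0 : Cfsg.pPrimeCore r (L ⧸ U.subgroupOf L) = ⊥ := by
    set N := Cfsg.pPrimeCore r (L ⧸ U.subgroupOf L) with hN
    obtain ⟨i, hi⟩ := IsPGroup.iff_card.1 D.pP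
    obtain ⟨j, hj⟩ := IsPGroup.iff_card.1 D.rQ
    have hd : Nat.card N ∣ p ^ i * r ^ j := by
      rw [← hi, ← hj, ← D.card_eq hpr]
      exact (card_subgroup_dvd_card N).trans (card_quotient_dvd_card _)
    have hd' : Nat.card N ∣ p ^ i :=
      ((CfsgLib.PCore.pPrimeCore_coprime).pow_right j).dvd_of_dvd_mul_right hd
    obtain ⟨l, -, hl⟩ := (Nat.dvd_prime_pow hp.out).1 hd'
    have hNp : IsPGroup p N := IsPGroup.of_card hl
    have hKp : IsPGroup p (N.comap f) := hNp.comap_of_ker_isPGroup f (by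
      rw [hf, QuotientGroup.ker_mk']
      exact hUp.comap_subtype)
    haveI : N.Normal := Cfsg.pPrimeCore_normal r _
    have hle : (N.comap f).map L.subtype ≤ U := by
      rintro _ ⟨z, hz, rfl⟩
      exact ⟨z, CfsgLib.PCore.le_pCore (Normal.comap inferInstance f) hKp hz, rfl⟩
    rw [eq_bot_iff]
    intro z hz
    obtain ⟨z, rfl⟩ := QuotientGroup.mk'_surjective _ z
    exact mem_bot.2 ((hfU z z.2).2 (hle ⟨z, hz, rfl⟩))
  have hCO := CfsgLib.PCore.centralizer_pCore_le (p := r)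
    (CfsgLib.PCore.isPSolvable_quotient (CfsgLib.PCore.isPSolvable_of_isSolvable (G := L))
      (U.subgroupOf L)) hp0
  refine S.le_of_forall_fix ((inf_le_left.trans D.leP).trans D.le)
    (le_normalizer_inf D.invP (le_normalizer_centralizer hRA)) fun a ha ha1 => ?_
  set Pa := P ⊓ centralizer (R : Set Γ) ⊓ centralizer ({a} : Set Γ) with hPa
  intro y hy
  have hyL : y ∈ L := D.leP hy.1.1
  rw [← hfU y hyL]
  set B := (Pa.subgroupOf L).map f with hB
  have hB' : B ≤ centralizer (O : Set (L ⧸ U.subgroupOf L)) := by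
    set N := (R.subgroupOf L).map f with hN
    have hNO : N ≤ O := by
      rintro _ ⟨⟨x, hxL⟩, hx, rfl⟩
      exact (hmemE x hxL).1 (hRE (mem_subgroupOf.1 hx))
    refine CfsgLib.Coprime.le_centralizer_of_trivial_on_series B O
      (le_normalizer_iff.2 fun b _ x hx => hOn.conj_mem x hx b) ?_ ?_ N hNO ?_ ?_
    · exact IsPGroup.coprime_card_of_ne p r hpr _ _
        (((D.pP.to_le (inf_le_left.trans inf_le_left)).comap_subtype).map f)
        (CfsgLib.LocalEvenCharP.isPGroup_pCore r _)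
    · haveI : Group.IsNilpotent O := (CfsgLib.LocalEvenCharP.isPGroup_pCore r _).isNilpotent
      exact Or.inr inferInstance
    · rintro _ ⟨⟨b, hbL⟩, hb, rfl⟩
      refine mem_centralizer_iff.2 ?_
      rintro _ ⟨⟨x, hxL⟩, hx, rfl⟩
      rw [← map_mul, ← map_mul]
      exact congrArg f (Subtype.ext (mem_centralizer_iff.1 (mem_subgroupOf.1 hb).1.2 x
        (mem_subgroupOf.1 hx)))
    · rintro _ ⟨⟨b, hbL⟩, hb, rfl⟩ k hk
      obtain ⟨⟨k, hkL⟩, rfl⟩ := QuotientGroup.mk'_surjective _ k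
      obtain ⟨u, hu, t, ht, hkut⟩ := hEdec k ((hmemE k hkL).2 hk)
      subst hkut
      have hu1 : f ⟨u, hUL hu⟩ = 1 := (hfU u _).2 hu
      have hk1 : f ⟨u * t, hkL⟩ = f ⟨t, hTL ht⟩ := by
        rw [show (⟨u * t, hkL⟩ : L) = ⟨u, hUL hu⟩ * ⟨t, hTL ht⟩ from rfl, map_mul, hu1, one_mul]
      rw [hk1, ← map_inv, ← map_inv, ← map_mul, ← map_mul, ← map_mul]
      have h := CfsgLib.Coprime.mem_normalizer_conj'
        (hMn (hTL ht)) (key a ha ha1 b (mem_subgroupOf.1 hb) t ht)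
      have hmem : t⁻¹ * (b * t * b⁻¹) ∈ M := by simpa [mul_assoc] using h
      obtain ⟨u', hu', x, hx, hux⟩ := CfsgLib.Coprime.exists_mul_of_mem_sup
        (hUL.trans hRn) hmem
      refine ⟨⟨x, hRL hx⟩, mem_subgroupOf.2 hx, ?_⟩
      refine (QuotientGroup.eq).2 (mem_subgroupOf.2 ?_)
      show x⁻¹ * (t⁻¹ * (b * t * b⁻¹)) ∈ U
      rw [hux]
      rw [← mul_assoc]
      exact CfsgLib.Coprime.mem_normalizer_conj' (hUn (hRL hx)) hu'
  have hO1 : f ⟨y, hyL⟩ ∈ O := hCO (hB' ⟨⟨y, hyL⟩, mem_subgroupOf.2 hy, rfl⟩)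
  exact (hfU y hyL).2 (hpr' y hyL hy.1.1 (mem_sup_left hO1))

end Duo

end CfsgLib.QSq
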