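import Cfsg.Agent.Lib.QSquared.Basic

/-! Consequences of the generation lemma. -/

set_option autoImplicit false
set_option linter.style.haveILetI false
set_option linter.unusedSectionVars false

open scoped commutatorElement
open Subgroup

namespace CfsgLib.QSq.Setup

variable {Γ : Type*} [Group Γ] [Finite Γ] {q : ℕ} {A G : Subgroup Γ} (S : Setup q A G)
include S

theorem not_mem_zpowers_symm {a c : Γ} (_ha : a ∈ A) (ha1 : a ≠ 1) (hc : c ∈ A) (hc1 : c ≠ 1)
    (hca : c ∉ zpowers a) : a ∉ zpowers c := fun h => hca (S.mem_zpowers_symm hc hc1 h ha1)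

theorem fix_eq {a e : Γ} (ha : a ∈ A) (ha1 : a ≠ 1) (he : e ∈ zpowers a) (he1 : e ≠ 1)
    (H : Subgroup Γ) :
    H ⊓ centralizer ({e} : Set Γ) = H ⊓ centralizer ({a} : Set Γ) := by
  ext x
  constructor
  · rintro ⟨hx, hxc⟩
    exact ⟨hx, mem_centralizer_iff_commute.2
      (commute_of_mem_zpowers (S.mem_zpowers_symm ha ha1 he he1)
        (mem_centralizer_iff_commute.1 hxc))⟩
  · rintro ⟨hx, hxc⟩
    exact ⟨hx, mem_centralizer_iff_commute.2
      (commute_of_mem_zpowers he (mem_centralizer_iff_commute.1 hxc))⟩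

/-- An element fixed by `c` and normalizing `X` modulo the centralizer centralizes `[Y, X]`. -/
theorem mem_centralizer_commutator {a c y : Γ} (ha : a ∈ A) (ha1 : a ≠ 1) (hc : c ∈ A)
    (hca : c ∉ zpowers a) {p r : ℕ} [Fact p.Prime] [Fact r.Prime] (hpr : p ≠ r)
    {X Y : Subgroup Γ} (hX : X ≤ G) (hXA : A ≤ normalizer (X : Set Γ))
    (hXp : IsPGroup p X) (hXa : ∀ x ∈ X, Commute a x) (hY : Y ≤ G)
    (hYA : A ≤ normalizer (Y : Set Γ)) (hYr : IsPGroup r Y) (hXY : X ≤ normalizer (Y : Set Γ))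
    (hy : y ∈ G) (hcy : Commute c y)
    (hyX : ∀ x ∈ X, y⁻¹ * (x⁻¹ * y * x) ∈ centralizer (Y : Set Γ)) :
    y ∈ centralizer ((⁅Y, X⁆ : Subgroup Γ) : Set Γ) := by
  have hcop : (Nat.card X).Coprime (Nat.card Y) :=
    IsPGroup.coprime_card_of_ne p r hpr X Y hXp hYr
  have hY' : ⁅Y, X⁆ ≤ Y := CfsgLib.Coprime.commutator_le_of_normalizes hXY
  haveI : Group.IsNilpotent Y := hYr.isNilpotent
  have hle : ⁅Y, X⁆ ≤ centralizer ({y} : Set Γ) := by
    refine S.le_of_generation ha ha1 hc hca hX hXA hXa (hY'.trans hY)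
      (le_normalizer_commutator hYA hXA) (hYr.to_le hY')
      (CfsgLib.Coprime.le_normalizer_commutator_right Y X)
      (hcop.coprime_dvd_right (card_dvd_of_le hY'))
      (CfsgLib.Coprime.commutator_commutator_eq X Y hXY hcop (Or.inr inferInstance)) ?_
    intro x hx w hw hcw
    have hc1 : c ≠ 1 := fun e => hca (e ▸ one_mem _)
    have h1 : Commute y w := S.abelian c hc hc1 y hy w (hY (hY' hw)) hcy hcw
    have h2 : Commute (y⁻¹ * (x⁻¹ * y * x)) w :=
      (mem_centralizer_iff.1 (hyX x hx) w (hY' hw)).symm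
    have h3 : Commute (x⁻¹ * y * x) w := by
      have h := h1.mul_left h2
      rwa [mul_inv_cancel_left] at h
    refine mem_centralizer_iff_commute.2 ?_
    have h4 : x⁻¹ * y * x * w = w * (x⁻¹ * y * x) := h3.eq
    show y * (x * w * x⁻¹) = x * w * x⁻¹ * y
    calc y * (x * w * x⁻¹) = x * (x⁻¹ * y * x * w) * x⁻¹ := by group
      _ = x * (w * (x⁻¹ * y * x)) * x⁻¹ := by rw [h4]
      _ = x * w * x⁻¹ * y := by group
  exact mem_centralizer_iff.2 fun w hw =>
    (mem_centralizer_iff_commute.1 (hle hw)).eq.symm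

/-- The commutator subgroup of an invariant `p`-group centralizes invariant `r`-groups. -/
theorem commutator_le_centralizer {p r : ℕ} [Fact p.Prime] [Fact r.Prime] (hpr : p ≠ r)
    {T U : Subgroup Γ} (hT : T ≤ G) (hTA : A ≤ normalizer (T : Set Γ)) (hTp : IsPGroup p T)
    (hU : U ≤ G) (hUA : A ≤ normalizer (U : Set Γ)) (hUr : IsPGroup r U)
    (hTU : T ≤ normalizer (U : Set Γ)) : ⁅T, T⁆ ≤ centralizer (U : Set Γ) := by
  by_contra hnot
  obtain ⟨W, hW⟩ := (Set.toFinite {W : Subgroup Γ | W ≤ ⁅T, T⁆ ∧ A ≤ normalizer (W : Set Γ) ∧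
    T ≤ normalizer (W : Set Γ) ∧ ¬ W ≤ centralizer (U : Set Γ)}).exists_minimal
      ⟨⁅T, T⁆, le_rfl, le_normalizer_commutator hTA hTA,
        le_normalizer_commutator Subgroup.le_normalizer Subgroup.le_normalizer, hnot⟩
  obtain ⟨⟨hWT', hWA, hTW, hWU⟩, hmin⟩ := hW
  have hWT : W ≤ T := hWT'.trans (CfsgLib.Coprime.commutator_le_of_normalizes Subgroup.le_normalizer)
  have hWb : W ≠ ⊥ := fun e => hWU (e ▸ bot_le)
  have hlt := CfsgLib.Coprime.commutator_lt_of_isPGroup (hTp.to_le hWT) hTp hTW hWb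
  have hWN : ⁅W, T⁆ ≤ centralizer (U : Set Γ) := by
    by_contra h
    exact hlt.not_ge (hmin ⟨hlt.le.trans hWT', le_normalizer_commutator hWA hTA,
      le_normalizer_commutator hTW Subgroup.le_normalizer, h⟩ hlt.le)
  obtain ⟨a, ha, ha1, hX⟩ : ∃ a ∈ A, a ≠ 1 ∧
      ¬ W ⊓ centralizer ({a} : Set Γ) ≤ centralizer (U : Set Γ) := by
    by_contra! h
    exact hWU (S.le_of_forall_fix (hWT.trans hT) hWA h)
  set X := W ⊓ centralizer ({a} : Set Γ) with hXdef
  have hXT : X ≤ T := inf_le_left.trans hWT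
  have hXA : A ≤ normalizer (X : Set Γ) := S.le_normalizer_fix ha hWA
  have hTU₁ : T ≤ normalizer ((⁅U, X⁆ : Subgroup Γ) : Set Γ) := by
    refine le_normalizer_iff.2 fun t ht z hz => ?_
    suffices h : ⁅U, X⁆ ≤ (⁅U, X⁆).comap (MulAut.conj t).toMonoidHom from h hz
    refine commutator_le.2 fun u hu x hx => ?_
    show t * ⁅u, x⁆ * t⁻¹ ∈ ⁅U, X⁆
    set u' := t * u * t⁻¹ with hu'
    have hu'U : u' ∈ U := CfsgLib.Coprime.mem_normalizer_conj (hTU ht) hu
    set n := ⁅x⁻¹, t⁆ with hn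
    have hnU : n ∈ centralizer (U : Set Γ) :=
      hWN (commutator_mem_commutator (inv_mem hx.1) ht)
    have e1 : t * x * t⁻¹ = x * n := by rw [hn, commutatorElement_def]; group
    rw [conjugate_commutatorElement, e1]
    have e2 : ⁅u', x * n⁆ = ⁅u', x⁆ * (x * ⁅u', n⁆ * x⁻¹) := by simp [commutatorElement_def, mul_assoc]
    rw [← hu', e2, commutatorElement_eq_one_iff_mul_comm.2 (mem_centralizer_iff.1 hnU u' hu'U),
      mul_one, mul_inv_cancel, mul_one]
    exact commutator_mem_commutator hu'U hx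
  set K := T ⊓ centralizer ((⁅U, X⁆ : Subgroup Γ) : Set Γ) with hK
  have hTK : T ≤ normalizer (K : Set Γ) :=
    le_normalizer_inf Subgroup.le_normalizer (le_normalizer_centralizer hTU₁)
  have hgen : T ≤ (T ⊓ centralizer ({a} : Set Γ)) ⊔ K := by
    refine S.le_of_forall_fix hT hTA fun c hc hc1 => ?_
    by_cases hca : c ∈ zpowers a
    · rw [S.fix_eq ha ha1 hca hc1]
      exact le_sup_left
    refine le_trans (fun y hy => (⟨hy.1, ?_⟩ : y ∈ T ∧ y ∈ centralizer ((⁅U, X⁆ : Subgroup Γ) : Set Γ))) le_sup_right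
    refine S.mem_centralizer_commutator (X := X) ha ha1 hc hca hpr (hXT.trans hT) hXA (hTp.to_le hXT)
      (fun x hx => mem_centralizer_iff_commute.1 hx.2) hU hUA hUr (hXT.trans hTU) (hT hy.1)
      (mem_centralizer_iff_commute.1 hy.2) fun x hx => ?_
    refine hWN ?_
    rw [commutator_comm]
    have e : y⁻¹ * (x⁻¹ * y * x) = ⁅y⁻¹, x⁻¹⁆ := by rw [commutatorElement_def]; group
    rw [e]
    exact commutator_mem_commutator (inv_mem hy.1) (inv_mem hx.1)
  have hT'K : ⁅T, T⁆ ≤ K := by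
    haveI : (K.subgroupOf T).Normal := normal_subgroupOf_of_le_normalizer hTK
    refine commutator_le.2 fun u hu v hv => ?_
    obtain ⟨s, hs, k, hk, rfl⟩ := CfsgLib.Coprime.exists_mul_of_mem_sup
      (inf_le_left.trans hTK) (hgen hu)
    obtain ⟨s', hs', k', hk', rfl⟩ := CfsgLib.Coprime.exists_mul_of_mem_sup
      (inf_le_left.trans hTK) (hgen hv)
    have hcm : Commute s s' := S.abelian a ha ha1 s (hT hs.1) s' (hT hs'.1)
      (mem_centralizer_iff_commute.1 hs.2) (mem_centralizer_iff_commute.1 hs'.2)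
    let f := QuotientGroup.mk' (K.subgroupOf T)
    have hk1 : ∀ k (hk : k ∈ K), f ⟨k, hk.1⟩ = 1 := fun k hk =>
      (QuotientGroup.eq_one_iff _).2 hk
    have h : f ⁅(⟨s, hs.1⟩ * ⟨k, hk.1⟩ : T), (⟨s', hs'.1⟩ * ⟨k', hk'.1⟩ : T)⁆ = 1 := by
      rw [map_commutatorElement, map_mul, map_mul, hk1 k hk, hk1 k' hk', mul_one, mul_one,
        ← map_commutatorElement, commutatorElement_eq_one_iff_mul_comm.2
          (show (⟨s, hs.1⟩ : T) * ⟨s', hs'.1⟩ = ⟨s', hs'.1⟩ * ⟨s, hs.1⟩ from Subtype.ext hcm.eq),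
        map_one]
    exact mem_subgroupOf.1 ((QuotientGroup.eq_one_iff _).1 h)
  have hXK : X ≤ centralizer ((⁅U, X⁆ : Subgroup Γ) : Set Γ) :=
    (inf_le_left.trans (hWT'.trans hT'K)).trans inf_le_right
  haveI : Group.IsNilpotent U := hUr.isNilpotent
  have h := CfsgLib.Coprime.commutator_eq_bot_of_commutator_commutator_eq_bot X U
    (hXT.trans hTU) (IsPGroup.coprime_card_of_ne p r hpr X U (hTp.to_le hXT) hUr)
    (Or.inr inferInstance)
    (Subgroup.commutator_eq_bot_iff_le_centralizer.2 (Subgroup.le_centralizer_iff.1 hXK))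
  rw [Subgroup.commutator_eq_bot_iff_le_centralizer] at h
  exact hX (Subgroup.le_centralizer_iff.1 h)

/-- `[P, a]` is generated by the fixed points in `P` of the elements outside `⟨a⟩`. -/
theorem commutator_le_centralizer_set {a : Γ} (ha : a ∈ A) (ha1 : a ≠ 1) {p : ℕ} [Fact p.Prime]
    {P : Subgroup Γ} (hP : P ≤ G) (hPA : A ≤ normalizer (P : Set Γ)) (hPp : IsPGroup p P)
    (s : Set Γ) (h : ∀ c ∈ A, c ∉ zpowers a → P ⊓ centralizer ({c} : Set Γ) ≤ centralizer s) :
    ⁅P, zpowers a⁆ ≤ centralizer s := by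
  have hAz : A ≤ normalizer (zpowers a : Set Γ) := le_normalizer_iff.2 fun b hb z hz => by
    rwa [(S.commute hb (zpowers_le.2 ha hz)).eq, mul_inv_cancel_right]
  have hzN : zpowers a ≤ normalizer (P : Set Γ) := (zpowers_le.2 ha).trans hPA
  set D := ⁅P, zpowers a⁆ with hD
  have hDP : D ≤ P := CfsgLib.Coprime.commutator_le_of_normalizes hzN
  have hDA : A ≤ normalizer (D : Set Γ) := le_normalizer_commutator hPA hAz
  set D₀ := closure {x | x ∈ D ∧ ∃ c ∈ A, c ∉ zpowers a ∧ Commute c x} with hD₀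
  have hD₀D : D₀ ≤ D := (closure_le _).2 fun x hx => hx.1
  have hD₀s : D₀ ≤ centralizer s := (closure_le _).2 fun x hx => by
    obtain ⟨hxD, c, hc, hca, hcx⟩ := hx
    exact h c hc hca ⟨hDP hxD, mem_centralizer_iff_commute.2 hcx⟩
  suffices h' : D₀ = D from h' ▸ hD₀s
  have haD₀ : zpowers a ≤ normalizer (D₀ : Set Γ) := by
    refine le_normalizer_iff.2 fun k hk z hz => ?_
    suffices h : D₀ ≤ D₀.comap (MulAut.conj k).toMonoidHom from h hz
    rw [hD₀, closure_le]
    rintro x ⟨hxD, c, hc, hca, hcx⟩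
    have hkA : k ∈ A := zpowers_le.2 ha hk
    exact subset_closure ⟨CfsgLib.Coprime.mem_normalizer_conj (hDA hkA) hxD, c, hc, hca,
      ((S.commute hc hkA).mul_right hcx).mul_right (S.commute hc hkA).inv_right⟩
  set M := D₀ ⊔ ⁅D, D⁆ with hM
  have hMD : M ≤ D := sup_le hD₀D (CfsgLib.Coprime.commutator_le_of_normalizes Subgroup.le_normalizer)
  have hDM : D ≤ normalizer (M : Set Γ) := le_normalizer_iff.2 fun k hk z hz => by
    have e : k * z * k⁻¹ = ⁅k, z⁆ * z := by rw [commutatorElement_def]; group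
    rw [e]
    exact mul_mem (mem_sup_right (commutator_mem_commutator hk (hMD hz))) hz
  have haM : zpowers a ≤ normalizer (M : Set Γ) :=
    le_normalizer_sup haD₀ (le_normalizer_commutator ((zpowers_le.2 ha).trans hDA)
      ((zpowers_le.2 ha).trans hDA))
  have hgen : D ≤ (D ⊓ centralizer ({a} : Set Γ)) ⊔ M := by
    refine S.le_of_forall_fix (hDP.trans hP) hDA fun c hc hc1 => ?_
    by_cases hca : c ∈ zpowers a
    · rw [S.fix_eq ha ha1 hca hc1]
      exact le_sup_left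
    intro x hx
    exact mem_sup_right (mem_sup_left (subset_closure
      ⟨hx.1, c, hc, hca, mem_centralizer_iff_commute.1 hx.2⟩))
  refine eq_of_sup_commutator (hPp.to_le hDP) hD₀D ?_
  haveI := hPp.isNilpotent
  conv_lhs => rw [hD, ← CfsgLib.Coprime.commutator_commutator_eq (zpowers a) P hzN
    ((S.coprime_card hP).coprime_dvd_left (card_dvd_of_le (zpowers_le.2 ha))) (Or.inr inferInstance)]
  refine commutator_le.2 fun x hx b hb => ?_
  obtain ⟨u, hu, m, hm, rfl⟩ := CfsgLib.Coprime.exists_mul_of_mem_sup (inf_le_left.trans hDM) (hgen hx)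
  have hbu : Commute b u := commute_of_mem_zpowers hb (mem_centralizer_iff_commute.1 hu.2)
  have e : ⁅u * m, b⁆ = u * ⁅m, b⁆ * u⁻¹ * ⁅u, b⁆ := by simp [commutatorElement_def, mul_assoc]
  rw [e, commutatorElement_eq_one_iff_mul_comm.2 hbu.symm.eq, mul_one]
  refine CfsgLib.Coprime.mem_normalizer_conj (hDM hu.1) ?_
  exact CfsgLib.Coprime.commutator_le_of_normalizes haM (commutator_mem_commutator hm hb)

end CfsgLib.QSq.Setup
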