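import Cfsg.Agent.Lib.QSquared.Pair
import Cfsg.Agent.Lib.Hall.Converse

/-!
An elementary abelian group of order `q²` acting coprimely with abelian centralizers forces
solvability.
-/

set_option autoImplicit false
set_option linter.style.haveILetI false
set_option linter.unusedSectionVars false

open scoped Pointwise
open Subgroup

namespace CfsgLib.QSq

universe u

variable {Γ : Type u} [Group Γ] [Finite Γ] {q : ℕ} {A G : Subgroup Γ}

/-- There is no minimal counterexample. -/
theorem Min.false (M : Min q A G) : False := by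
  classical
  let S : (p : Nat.Primes) → Sylow (p : ℕ) G := fun p =>
    haveI := Fact.mk p.2
    Sylow.ofCard ((syl A G (p : ℕ)).subgroupOf G)
      (by rw [CfsgLib.Coprime.card_subgroupOf (M.syl_le p)]; exact (M.syl_spec p).2.2.2)
  have hSc : ∀ p : Nat.Primes, (S p : Set G) = ((syl A G (p : ℕ)).subgroupOf G : Set G) := fun p => by
    haveI := Fact.mk p.2
    exact congrArg SetLike.coe (Sylow.coe_ofCard ((syl A G (p : ℕ)).subgroupOf G)
      (by rw [CfsgLib.Coprime.card_subgroupOf (M.syl_le p)]; exact (M.syl_spec p).2.2.2))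
  have hsub : ∀ {p r : Nat.Primes}, p ≠ r → (p : ℕ) ∣ Nat.card G → (r : ℕ) ∣ Nat.card G →
      (S p : Set G) * (S r : Set G) ⊆ (S r : Set G) * (S p : Set G) := by
    intro p r hne hp hr
    haveI := Fact.mk p.2
    haveI := Fact.mk r.2
    obtain ⟨L, D⟩ := M.exists_syl_duo (fun e => hne (Subtype.ext e)) hp hr
    rw [hSc, hSc]
    rintro _ ⟨u, hu, v, hv, rfl⟩
    obtain ⟨v', hv', u', hu', he⟩ := D.symm.mul ((u : Γ) * v)
      (L.mul_mem (D.leP (mem_subgroupOf.1 hu)) (D.leQ (mem_subgroupOf.1 hv)))
    exact ⟨⟨v', M.syl_le _ hv'⟩, mem_subgroupOf.2 hv', ⟨u', M.syl_le _ hu'⟩, mem_subgroupOf.2 hu',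
      Subtype.ext he⟩
  have hone : ∀ p : Nat.Primes, ¬ (p : ℕ) ∣ Nat.card G → (S p : Set G) = {1} := by
    intro p hp
    haveI := Fact.mk p.2
    have h1 : ((S p : Subgroup G)) = ⊥ := card_eq_one.1 (by
      rw [(S p).card_eq_multiplicity, Nat.factorization_eq_zero_of_not_dvd hp, pow_zero])
    show ((S p : Subgroup G) : Set G) = {1}
    rw [h1, coe_bot]
  have hperm : ∀ p r : Nat.Primes, (S p : Set G) * (S r : Set G) = (S r : Set G) * (S p : Set G) := by
    intro p r
    by_cases hne : p = r
    · rw [hne]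
    by_cases hp : (p : ℕ) ∣ Nat.card G
    · by_cases hr : (r : ℕ) ∣ Nat.card G
      · exact Set.Subset.antisymm (hsub hne hp hr) (hsub (Ne.symm hne) hr hp)
      · simp [hone r hr]
    · simp [hone p hp]
  exact M.not_solvable (CfsgLib.Hall.Converse.isSolvable_of_complements _ rfl
    (CfsgLib.Hall.Converse.exists_complement_of_permuting S hperm))

/-- The theorem in a common group. -/
theorem isSolvable_aux : ∀ (n : ℕ) {Γ : Type u} [Group Γ] [Finite Γ] {q : ℕ} {A G : Subgroup Γ},
    Nat.card G = n → q.Prime → Cfsg.IsElementaryAbelian q A → Nat.card A = q ^ 2 →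
    A ≤ normalizer (G : Set Γ) → ¬ q ∣ Nat.card G →
    (∀ a ∈ A, a ≠ 1 → ∀ x ∈ G, ∀ y ∈ G, Commute a x → Commute a y → Commute x y) →
    Group.IsSolvable G := by
  intro n
  induction n using Nat.strong_induction_on with
  | _ n IH =>
  intro Γ _ _ q A G hn hq hel hA hAG hcop hab
  subst hn
  by_contra hns
  haveI := Fact.mk hq
  have hA1 : A ≠ ⊥ := fun e => by
    rw [e, card_bot] at hA
    exact absurd hA (Nat.one_lt_pow two_ne_zero hq.one_lt).ne
  have hcopA : ∀ {H : Subgroup Γ}, H ≤ G → (Nat.card A).Coprime (Nat.card H) := fun hH => by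
    rw [hA]
    exact ((hq.coprime_iff_not_dvd.2 hcop).coprime_dvd_right (card_dvd_of_le hH)).pow_left 2
  have hsub : ∀ H : Subgroup Γ, H ≤ G → A ≤ normalizer (H : Set Γ) → H ≠ G → Group.IsSolvable H := by
    intro H hH hHA hne
    refine IH (Nat.card H) ?_ rfl hq hel hA hHA (fun hd => hcop (hd.trans (card_dvd_of_le hH)))
      fun a ha ha1 x hx y hy => hab a ha ha1 x (hH hx) y (hH hy)
    exact lt_of_le_of_ne (card_le_of_le hH) fun e => hne (eq_of_le_of_card_ge hH e.ge)
  have hsimple : ∀ N : Subgroup Γ, N ≤ G → A ≤ normalizer (N : Set Γ) → G ≤ normalizer (N : Set Γ) →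
      N = ⊥ ∨ N = G := by
    intro N hNG hNA hGN
    by_contra! hne
    obtain ⟨h1, h2⟩ := hne
    refine hns ?_
    haveI := hsub N hNG hNA h2
    set T := normalizer (N : Set Γ) with hT
    haveI : (N.subgroupOf T).Normal := normal_subgroupOf_of_le_normalizer le_rfl
    set f := QuotientGroup.mk' (N.subgroupOf T) with hf
    set A' := A.subgroupOf T with hA'
    set G' := G.subgroupOf T with hG'
    have hcA : Nat.card A' = q ^ 2 := (CfsgLib.Coprime.card_subgroupOf hNA).trans hA
    have hcG : Nat.card G' = Nat.card G := CfsgLib.Coprime.card_subgroupOf hGN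
    have hinj : ∀ x ∈ A', f x = 1 → x = 1 := by
      intro x hx hx1
      have hxN : (x : Γ) ∈ N := mem_subgroupOf.1 ((QuotientGroup.eq_one_iff x).1 hx1)
      have h := (disjoint_of_coprime_natCard (hcopA hNG)).eq_bot
      exact Subtype.ext (mem_bot.1 (h ▸ (⟨mem_subgroupOf.1 hx, hxN⟩ : (x : Γ) ∈ A ⊓ N)))
    have hcfA : Nat.card (A'.map f) = q ^ 2 := by
      rw [← hcA]
      refine (Nat.card_eq_of_bijective
        (fun x : A' => (⟨f x, mem_map_of_mem f x.2⟩ : A'.map f)) ⟨fun x y e => ?_, ?_⟩).symm
      · have e' : f x = f y := congrArg Subtype.val e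
        have := hinj _ (A'.mul_mem (A'.inv_mem x.2) y.2) (by rw [map_mul, map_inv, e', inv_mul_cancel])
        exact Subtype.ext (inv_mul_eq_one.1 this)
      · rintro ⟨_, x, hx, rfl⟩
        exact ⟨⟨x, hx⟩, rfl⟩
    have hdvd : Nat.card (G'.map f) ∣ Nat.card G := hcG ▸ card_map_dvd G' f
    have hlt : Nat.card (G'.map f) < Nat.card G := by
      have hk : G'.map f = (f.comp G'.subtype).range := by
        rw [MonoidHom.range_comp, range_subtype]
      have hidx := (f.comp G'.subtype).ker.card_mul_index
      rw [Subgroup.index_ker, ← hk, hcG] at hidx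
      have hker : 1 < Nat.card (f.comp G'.subtype).ker := by
        rw [one_lt_card_iff_ne_bot]
        intro e
        apply h1
        rw [eq_bot_iff]
        intro x hx
        have hxk : (⟨⟨x, hGN (hNG hx)⟩, hNG hx⟩ : G') ∈ (f.comp G'.subtype).ker :=
          (QuotientGroup.eq_one_iff _).2 (mem_subgroupOf.2 hx)
        rw [e, mem_bot] at hxk
        exact mem_bot.2 (congrArg (fun z : G' => ((z : T) : Γ)) hxk)
      rw [← hidx]
      exact lt_mul_of_one_lt_left Nat.card_pos hker
    have hGA' : A' ≤ normalizer (G' : Set T) :=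
      le_normalizer_iff.2 fun b hb z hz => mem_subgroupOf.2
        (CfsgLib.Coprime.mem_normalizer_conj (hAG (mem_subgroupOf.1 hb)) (mem_subgroupOf.1 hz))
    haveI hsol : Group.IsSolvable (G'.map f) := by
      refine IH _ hlt rfl hq (A := A'.map f) ⟨?_, ?_⟩ hcfA ?_ (fun hd => hcop (hd.trans hdvd)) ?_
      · refine ⟨⟨fun x y => Subtype.ext ?_⟩⟩
        obtain ⟨u, hu, hue⟩ := x.2
        obtain ⟨v, hv, hve⟩ := y.2
        show (x : T ⧸ N.subgroupOf T) * y = y * x
        rw [← hue, ← hve, ← map_mul, ← map_mul]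
        haveI := hel.1
        exact congrArg f (Subtype.ext (congrArg (fun z : A => (z : Γ))
          (mul_comm' (⟨u, hu⟩ : A) ⟨v, hv⟩)))
      · rintro _ ⟨u, hu, rfl⟩
        rw [← map_pow, show u ^ q = 1 from Subtype.ext (by simpa using hel.2 _ (mem_subgroupOf.1 hu)),
          map_one]
      · exact (map_mono hGA').trans (Subgroup.le_normalizer_map f)
      · rintro _ ⟨a, ha, rfl⟩ ha1 x hx y hy hax hay
        have hz : zpowers a ≤ A' := zpowers_le.2 ha
        have hlift := CfsgLib.Coprime.map_inf_centralizer f (zpowers a) G' (hz.trans hGA')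
          (((hcopA le_rfl).coprime_dvd_left
            ((card_dvd_of_le hz).trans (hcA.trans hA.symm).dvd)).coprime_dvd_right hcG.dvd)
          (Or.inl inferInstance)
        have key : ∀ z ∈ G'.map f, Commute (f a) z →
            ∃ w ∈ G', Commute a w ∧ f w = z := by
          intro z hzG hzc
          have hzmem : z ∈ G'.map f ⊓ centralizer ((zpowers a).map f : Set _) := by
            refine ⟨hzG, ?_⟩
            rw [MonoidHom.map_zpowers, zpowers_eq_closure, centralizer_closure]
            exact mem_centralizer_iff_commute.2 hzc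
          rw [← hlift] at hzmem
          obtain ⟨w, hw, rfl⟩ := hzmem
          exact ⟨w, hw.1, mem_centralizer_iff.1 hw.2 a (mem_zpowers a), rfl⟩
        obtain ⟨w, hw, haw, rfl⟩ := key x hx hax
        obtain ⟨w', hw', haw', rfl⟩ := key y hy hay
        have hne : (a : Γ) ≠ 1 := fun e => ha1 (by rw [show a = 1 from Subtype.ext e, map_one])
        exact (show Commute w w' from Subtype.ext
          (hab a (mem_subgroupOf.1 ha) hne w (mem_subgroupOf.1 hw) w' (mem_subgroupOf.1 hw')
            (congrArg Subtype.val haw) (congrArg Subtype.val haw')).eq).map f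
    have hG'sol : Group.IsSolvable G' := by
      let g : G' →* G'.map f := (f.comp G'.subtype).codRestrict _ fun x => mem_map_of_mem f x.2
      let ι : N →* G' := ((inclusion hGN).comp (inclusion hNG)).codRestrict G'
        fun x => mem_subgroupOf.2 (hNG x.2)
      refine Group.isSolvable_of_ker_le_range ι g fun x hx => ?_
      have hxN : ((x : T) : Γ) ∈ N := mem_subgroupOf.1
        ((QuotientGroup.eq_one_iff _).1 (congrArg Subtype.val (MonoidHom.mem_ker.1 hx)))
      exact ⟨⟨_, hxN⟩, rfl⟩
    exact Group.isSolvable_of_isSolvable_injective (f := (subgroupOfEquivOfLe hGN).symm.toMonoidHom)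
      (subgroupOfEquivOfLe hGN).symm.injective
  have hfpf : G ⊓ centralizer (A : Set Γ) = ⊥ := by
    set Z := G ⊓ centralizer (G : Set Γ) with hZ
    have hle : G ⊓ centralizer (A : Set Γ) ≤ Z := by
      intro c hc
      refine ⟨hc.1, Subgroup.le_centralizer_iff.1 ?_ (mem_zpowers c)⟩
      rw [← CfsgLib.Coprime39.eq_hyperCent hel hA1
        (hq.coprime_iff_not_dvd.2 hcop).symm hAG]
      refine iSup_le fun B => fun x hx => ?_
      have hB : (B : Subgroup Γ) ≠ ⊥ := fun e => by
        have := B.2.2
        rw [e, relIndex_bot_left, hA] at this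
        nlinarith [hq.two_le]
      obtain ⟨a, ha, ha1⟩ := (bot_or_exists_ne_one _).resolve_left hB
      rw [zpowers_eq_closure, centralizer_closure]
      exact mem_centralizer_iff_commute.2 (hab a (B.2.1 ha) ha1 c hc.1 x hx.1
        (mem_centralizer_iff.1 hc.2 a (B.2.1 ha)) (mem_centralizer_iff.1 hx.2 a ha))
    rcases hsimple Z inf_le_left (le_normalizer_inf hAG (le_normalizer_centralizer hAG))
      (le_normalizer_inf Subgroup.le_normalizer (le_normalizer_centralizer Subgroup.le_normalizer))
      with h | h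
    · exact eq_bot_iff.2 (hle.trans h.le)
    · exfalso
      refine hns ?_
      haveI : IsMulCommutative G := ⟨⟨fun x y => Subtype.ext
        (mem_centralizer_iff.1 (inf_eq_left.1 h y.2) x x.2)⟩⟩
      letI : CommGroup G :=
        { (inferInstance : Group G) with mul_comm := fun a b => (IsMulCommutative.is_comm).comm a b }
      infer_instance
  exact Min.false (Γ := Γ) (A := A) (G := G) (q := q)
    ⟨⟨hq, hel, hA, hAG, hcop, hab, hfpf⟩, hsub, hsimple, hns⟩

end CfsgLib.QSq
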