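import Cfsg.Agent.Lib.QSquared.Core
import Cfsg.Agent.Lib.Hall.Pi
import Cfsg.Agent.Lib.Transfer.NormalComplement
import Mathlib.GroupTheory.Transfer

/-! A minimal counterexample: invariant Sylow subgroups and the largest permuting subgroups. -/

set_option autoImplicit false
set_option linter.style.haveILetI false
set_option linter.unusedSectionVars false

open scoped commutatorElement Pointwise
open Subgroup

namespace CfsgLib.QSq

variable {Γ : Type*} [Group Γ]

/-- A minimal counterexample. -/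
structure Min (q : ℕ) (A G : Subgroup Γ) : Prop extends Setup q A G where
  proper : ∀ H : Subgroup Γ, H ≤ G → A ≤ normalizer (H : Set Γ) → H ≠ G → Group.IsSolvable H
  simple : ∀ N : Subgroup Γ, N ≤ G → A ≤ normalizer (N : Set Γ) →
    G ≤ normalizer (N : Set Γ) → N = ⊥ ∨ N = G
  not_solvable : ¬ Group.IsSolvable G

/-- The invariant Sylow subgroup. -/
def syl (A G : Subgroup Γ) (p : ℕ) : Subgroup Γ :=
  sSup {P | P ≤ G ∧ A ≤ normalizer (P : Set Γ) ∧ IsPGroup p P}

/-- The largest invariant `r`-subgroup permuting with the invariant Sylow `p`-subgroup. -/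
def star (A G : Subgroup Γ) (p r : ℕ) : Subgroup Γ :=
  sSup {Q₀ | Q₀ ≤ syl A G r ∧ ∃ L, Duo A G p r L (syl A G p) Q₀}

/-- The center of the invariant Sylow subgroup. -/
def zc (A G : Subgroup Γ) (p : ℕ) : Subgroup Γ :=
  syl A G p ⊓ centralizer (syl A G p : Set Γ)

theorem inf_centralizer_isMulCommutative (P : Subgroup Γ) :
    IsMulCommutative (P ⊓ centralizer (P : Set Γ) : Subgroup Γ) :=
  ⟨⟨fun x y => Subtype.ext (mem_centralizer_iff.1 y.2.2 x x.2.1)⟩⟩

variable [Finite Γ] {q : ℕ} {A G : Subgroup Γ}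

namespace Min

variable (M : Min q A G)
include M

theorem ne_bot : G ≠ ⊥ := fun e => M.not_solvable (e ▸ inferInstance)

theorem center_eq_bot : G ⊓ centralizer (G : Set Γ) = ⊥ := by
  rcases M.simple (G ⊓ centralizer (G : Set Γ)) inf_le_left
    (le_normalizer_inf M.le_normalizer (le_normalizer_centralizer M.le_normalizer))
    (le_normalizer_inf Subgroup.le_normalizer (le_normalizer_centralizer Subgroup.le_normalizer))
    with h | h
  · exact h
  exfalso
  refine M.not_solvable ?_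
  haveI : IsMulCommutative G := by
    refine ⟨⟨fun x y => Subtype.ext ?_⟩⟩
    exact mem_centralizer_iff.1 (inf_eq_left.1 h y.2) x x.2
  letI : CommGroup G :=
    { (inferInstance : Group G) with mul_comm := fun a b => (IsMulCommutative.is_comm).comm a b }
  infer_instance

theorem normalizer_ne {H : Subgroup Γ} (hH : H ≤ G) (hHA : A ≤ normalizer (H : Set Γ))
    (h1 : H ≠ ⊥) (h2 : H ≠ G) : G ⊓ normalizer (H : Set Γ) ≠ G := fun e => by
  rcases M.simple H hH hHA (inf_eq_left.1 e) with h | h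
  · exact h1 h
  · exact h2 h

theorem centralizer_ne {X : Subgroup Γ} (hX : X ≤ G) (h1 : X ≠ ⊥) :
    G ⊓ centralizer (X : Set Γ) ≠ G := fun e => by
  apply h1
  rw [eq_bot_iff, ← M.center_eq_bot]
  exact le_inf hX (Subgroup.le_centralizer_iff.1 (inf_eq_left.1 e))

theorem exists_fix_ne_bot {H : Subgroup Γ} (hH : H ≤ G) (hHA : A ≤ normalizer (H : Set Γ))
    (h1 : H ≠ ⊥) : ∃ a ∈ A, a ≠ 1 ∧ H ⊓ centralizer ({a} : Set Γ) ≠ ⊥ := by
  by_contra! h
  exact h1 (eq_bot_iff.2 (M.toSetup.le_of_forall_fix hH hHA fun a ha ha1 => (h a ha ha1).le))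

section Prime

variable (p : ℕ) [hp : Fact p.Prime]

theorem syl_spec : syl A G p ≤ G ∧ A ≤ normalizer (syl A G p : Set Γ) ∧
    IsPGroup p (syl A G p) ∧ Nat.card (syl A G p) = p ^ (Nat.card G).factorization p := by
  obtain ⟨P, hP⟩ := CfsgLib.Coprime.exists_invariant_sylow A G M.le_normalizer
    (M.toSetup.coprime_card le_rfl) (Or.inl M.toSetup.isSolvable) p
  set P' := (P : Subgroup G).map G.subtype with hP'
  have h : syl A G p = P' := by
    refine le_antisymm (sSup_le ?_) (le_sSup ⟨map_subtype_le _, hP, P.isPGroup'.map _⟩)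
    rintro X ⟨hX, hXA, hXp⟩
    obtain ⟨Q, hXQ, hQ⟩ := CfsgLib.Coprime.exists_invariant_sylow_ge A G M.le_normalizer
      (M.toSetup.coprime_card le_rfl) (Or.inl M.toSetup.isSolvable) p X hX hXp hXA
    obtain ⟨c, hc, rfl⟩ := CfsgLib.Coprime.invariant_sylow_conj A G M.le_normalizer
      (M.toSetup.coprime_card le_rfl) (Or.inl M.toSetup.isSolvable) p P Q hP hQ
    have hc1 : (c : Γ) ∈ G ⊓ centralizer (A : Set Γ) := ⟨c.2, hc⟩
    rw [M.fpf, mem_bot] at hc1
    rw [show c = 1 from Subtype.ext hc1, one_smul] at hXQ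
    exact hXQ
  rw [h]
  exact ⟨map_subtype_le _, hP, P.isPGroup'.map _,
    by rw [Subgroup.card_subtype, P.card_eq_multiplicity]⟩

theorem syl_le : syl A G p ≤ G := (M.syl_spec p).1

theorem inv_syl : A ≤ normalizer (syl A G p : Set Γ) := (M.syl_spec p).2.1

theorem syl_isPGroup : IsPGroup p (syl A G p) := (M.syl_spec p).2.2.1

theorem le_syl {X : Subgroup Γ} (hX : X ≤ G) (hXA : A ≤ normalizer (X : Set Γ))
    (hXp : IsPGroup p X) : X ≤ syl A G p := le_sSup ⟨hX, hXA, hXp⟩

theorem syl_ne_bot (hd : p ∣ Nat.card G) : syl A G p ≠ ⊥ := fun e => by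
  have h := (M.syl_spec p).2.2.2
  rw [e, card_bot] at h
  have h1 : 0 < (Nat.card G).factorization p :=
    hp.out.factorization_pos_of_dvd Nat.card_pos.ne' hd
  exact absurd h (Nat.one_lt_pow h1.ne' hp.out.one_lt).ne

theorem syl_ne : syl A G p ≠ G := fun e => by
  refine M.not_solvable ?_
  haveI := (M.syl_isPGroup p).isNilpotent
  rw [← e]
  infer_instance

theorem zc_le : zc A G p ≤ syl A G p := inf_le_left

theorem inv_zc : A ≤ normalizer (zc A G p : Set Γ) :=
  le_normalizer_inf (M.inv_syl p) (le_normalizer_centralizer (M.inv_syl p))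

theorem not_hasNormalPComplement (hd : p ∣ Nat.card G) : ¬ Cfsg.HasNormalPComplement p G := by
  rintro ⟨P, N, hN, hc⟩
  set K := (Cfsg.pPrimeCore p G).map G.subtype with hK
  have hKA : A ≤ normalizer (K : Set Γ) := by
    refine le_normalizer_iff.2 fun b hb x hx => ?_
    obtain ⟨⟨x, hxG⟩, hx, rfl⟩ := hx
    let e : G ≃* G :=
      { toFun := fun g => ⟨b * g * b⁻¹, CfsgLib.Coprime.mem_normalizer_conj (M.le_normalizer hb) g.2⟩
        invFun := fun g => ⟨b⁻¹ * g * b, CfsgLib.Coprime.mem_normalizer_conj' (M.le_normalizer hb) g.2⟩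
        left_inv := fun g => Subtype.ext (by simp [mul_assoc])
        right_inv := fun g => Subtype.ext (by simp [mul_assoc])
        map_mul' := fun g h => Subtype.ext (by simp [mul_assoc]) }
    refine ⟨e ⟨x, hxG⟩, ?_, rfl⟩
    rw [← CfsgLib.PCore.map_pPrimeCore_equiv e]
    exact mem_map_of_mem _ hx
  have hKG : G ≤ normalizer (K : Set Γ) := by
    have h := Subgroup.le_normalizer_map (H := Cfsg.pPrimeCore p G) G.subtype
    rwa [normalizer_eq_top_iff.2 (Cfsg.pPrimeCore_normal p G), ← MonoidHom.range_eq_map,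
      range_subtype] at h
  have hNc : (Nat.card N).Coprime p := by
    rw [← hc.index_eq_card]
    exact ((hp.out.coprime_iff_not_dvd).2 P.not_dvd_index).symm
  rcases M.simple K (map_subtype_le _) hKA hKG with h | h
  · have hN1 : N ≤ (⊥ : Subgroup G) := by
      rw [← (Subgroup.map_eq_bot_iff_of_injective _ G.subtype_injective).1 h]
      exact CfsgLib.PCore.le_pPrimeCore hN hNc
    rw [le_bot_iff] at hN1
    refine M.not_solvable ?_
    haveI : Group.IsNilpotent G := by
      refine (IsPGroup.of_card (n := (Nat.card G).factorization p) ?_ : IsPGroup p G).isNilpotent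
      rw [← hc.card_mul_card, hN1, card_bot, one_mul, P.card_eq_multiplicity]
      rw [← hc.card_mul_card, hN1, card_bot, one_mul, P.card_eq_multiplicity]
      simp [hp.out.factorization_pow]
    infer_instance
  · have h1 := CfsgLib.PCore.not_dvd_card_pPrimeCore (p := p) (G := G)
    apply h1
    rw [← Subgroup.card_subtype G (Cfsg.pPrimeCore p G), ← hK, h]
    exact hd

/-- The fixed points of no nontrivial element contain the whole Sylow subgroup. -/
theorem not_syl_le_centralizer {a : Γ} (ha : a ∈ A) (ha1 : a ≠ 1) (hd : p ∣ Nat.card G) :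
    ¬ syl A G p ≤ centralizer ({a} : Set Γ) := by
  intro hle
  set P := syl A G p with hP
  have hPa : ∀ x ∈ P, Commute a x := fun x hx => mem_centralizer_iff_commute.1 (hle hx)
  set N := G ⊓ normalizer (P : Set Γ) with hN
  have hNA : A ≤ normalizer (N : Set Γ) :=
    le_normalizer_inf M.le_normalizer (le_normalizer_normalizer (M.inv_syl p))
  set z := zpowers a with hz
  have hzA : z ≤ A := zpowers_le.2 ha
  have hzN : z ≤ normalizer (N : Set Γ) := hzA.trans hNA
  have hcomm : ⁅N, z⁆ ≤ centralizer (P : Set Γ) := by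
    refine commutator_le.2 fun n hn b hb => mem_centralizer_iff.2 fun x hx => ?_
    have hbx : ∀ y ∈ P, b * y * b⁻¹ = y := fun y hy => by
      rw [(Setup.commute_of_mem_zpowers hb (hPa y hy)).eq, mul_inv_cancel_right]
    have hbx' : ∀ y ∈ P, b⁻¹ * y * b = y := fun y hy => by
      conv_lhs => rw [← hbx y hy]
      group
    have hy : n⁻¹ * x * n ∈ P := CfsgLib.Coprime.mem_normalizer_conj' hn.2 hx
    have e : ⁅n, b⁆ * x * ⁅n, b⁆⁻¹ = x := by
      calc ⁅n, b⁆ * x * ⁅n, b⁆⁻¹ = n * (b * (n⁻¹ * (b⁻¹ * x * b) * n) * b⁻¹) * n⁻¹ := by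
            rw [commutatorElement_def]; group
        _ = x := by rw [hbx' x hx, hbx _ hy]; group
    exact (mul_inv_eq_iff_eq_mul.1 e).symm
  have hfix : N ⊓ centralizer (z : Set Γ) ≤ centralizer (P : Set Γ) := fun n hn =>
    mem_centralizer_iff.2 fun x hx => (M.abelian a ha ha1 n hn.1.1 x (M.syl_le p hx)
      (mem_centralizer_iff.1 hn.2 a (mem_zpowers a)) (hPa x hx)).symm.eq
  have hNC : N ≤ centralizer (P : Set Γ) := by
    rw [← CfsgLib.Coprime.commutator_sup_centralizer z N hzN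
      ((M.toSetup.coprime_card inf_le_left).coprime_dvd_left (card_dvd_of_le hzA))
      (Or.inl (haveI := M.toSetup.isSolvable
        Group.isSolvable_of_isSolvable_injective (f := inclusion hzA) (inclusion_injective _)))]
    exact sup_le hcomm hfix
  apply M.not_hasNormalPComplement p hd
  let PG : Sylow p G := Sylow.ofCard (P.subgroupOf G)
    (by rw [CfsgLib.Coprime.card_subgroupOf (M.syl_le p)]; exact (M.syl_spec p).2.2.2)
  have hNle : normalizer ((PG : Subgroup G) : Set G) ≤ centralizer ((PG : Subgroup G) : Set G) := by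
    intro g hg
    rw [Sylow.coe_ofCard] at hg ⊢
    rw [← Subgroup.subgroupOf_normalizer_eq (M.syl_le p), mem_subgroupOf] at hg
    have hgC := hNC ⟨g.2, hg⟩
    exact mem_centralizer_iff.2 fun x hx =>
      Subtype.ext (mem_centralizer_iff.1 hgC x (mem_subgroupOf.1 hx))
  exact ⟨PG, _, MonoidHom.normal_ker _, MonoidHom.ker_transferSylow_isComplement' PG hNle⟩

end Prime

section Pair

variable {p r : ℕ} [hp : Fact p.Prime] [hr : Fact r.Prime]

theorem duo_ne {L P Q : Subgroup Γ} (hpr : p ≠ r) (D : Duo A G p r L P Q) : L ≠ G := fun e =>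
  M.not_solvable (e ▸ D.isSolvable hpr)

omit hp hr in
/-- Invariant Hall subgroups of proper invariant subgroups. -/
theorem exists_inv_hall (π : Set ℕ) {H : Subgroup Γ} (hH : H ≤ G)
    (hHA : A ≤ normalizer (H : Set Γ)) (hne : H ≠ G) :
    ∃ L : Subgroup Γ, L ≤ H ∧ A ≤ normalizer (L : Set Γ) ∧
      (∀ s : ℕ, s.Prime → s ∣ Nat.card L → s ∈ π) ∧
      ∀ s : ℕ, [Fact s.Prime] → s ∈ π → H ⊓ syl A G s ≤ L ∧
        Nat.card (H ⊓ syl A G s : Subgroup Γ) = s ^ (Nat.card L).factorization s ∧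
        (Nat.card H).factorization s = (Nat.card L).factorization s := by
  haveI := M.proper H hH hHA hne
  obtain ⟨B, hB⟩ := CfsgLib.Hall.exists_isPiHall (G := H) π
  set B' := B.map H.subtype with hB'
  have hB'H : B' ≤ H := map_subtype_le _
  obtain ⟨x, hx, hxS⟩ := CfsgLib.Coprime.exists_conj_mem_of_forall_mul A H hHA
    (M.toSetup.coprime_card hH) (Or.inl M.toSetup.isSolvable) (normalizer (B' : Set Γ)) fun b hb => by
      let e : H ≃* H :=
        { toFun := fun g => ⟨b * g * b⁻¹, CfsgLib.Coprime.mem_normalizer_conj (hHA hb) g.2⟩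
          invFun := fun g => ⟨b⁻¹ * g * b, CfsgLib.Coprime.mem_normalizer_conj' (hHA hb) g.2⟩
          left_inv := fun g => Subtype.ext (by simp [mul_assoc])
          right_inv := fun g => Subtype.ext (by simp [mul_assoc])
          map_mul' := fun g h => Subtype.ext (by simp [mul_assoc]) }
      have hB2 : Cfsg.IsPiHall π (B.map e.toMonoidHom) := by
        refine ⟨fun s hs hd => hB.1 s hs ?_, fun s hs hsπ hd => hB.2 s hs hsπ ?_⟩
        · rwa [card_map_of_injective e.injective] at hd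
        · rwa [Subgroup.index_map_of_bijective e.bijective] at hd
      obtain ⟨k, hk⟩ := CfsgLib.Hall.isPiHall_conj hB hB2
      refine ⟨k, k.2, CfsgLib.Coprime.mem_normalizer_of_forall_conj ?_⟩
      rintro _ ⟨y, hy, rfl⟩
      have h1 : e y ∈ MulAut.conj k • B := hk ▸ mem_map_of_mem _ hy
      obtain ⟨z, hz, hze⟩ := h1
      have hze' : (k : Γ) * z * (k : Γ)⁻¹ = b * y * b⁻¹ := congrArg Subtype.val hze
      refine ⟨z, hz, ?_⟩
      show (z : Γ) = (k : Γ)⁻¹ * b * y * ((k : Γ)⁻¹ * b)⁻¹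
      calc (z : Γ) = (k : Γ)⁻¹ * ((k : Γ) * z * (k : Γ)⁻¹) * k := by group
        _ = _ := by rw [hze']; group
  set L := B'.map (MulAut.conj x⁻¹ : Γ →* Γ) with hL
  have hLH : L ≤ H := by
    rintro _ ⟨y, hy, rfl⟩
    exact H.mul_mem (H.mul_mem (H.inv_mem hx) (hB'H hy)) (H.inv_mem (H.inv_mem hx))
  have hLA : A ≤ normalizer (L : Set Γ) := by
    refine le_normalizer_iff.2 fun b hb y hy => ?_
    obtain ⟨z, hz, rfl⟩ := hy
    refine ⟨x * b * x⁻¹ * z * (x * b * x⁻¹)⁻¹,
      CfsgLib.Coprime.mem_normalizer_conj (hxS b hb) hz, ?_⟩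
    show x⁻¹ * (x * b * x⁻¹ * z * (x * b * x⁻¹)⁻¹) * x⁻¹⁻¹ = b * (x⁻¹ * z * x⁻¹⁻¹) * b⁻¹
    group
  have hcardL : Nat.card L = Nat.card B := by
    rw [hL, card_map_of_injective (MulAut.conj x⁻¹).injective, Subgroup.card_subtype]
  have key : ∀ s : ℕ, [Fact s.Prime] → s ∈ π → H ⊓ syl A G s ≤ L ∧
      Nat.card (H ⊓ syl A G s : Subgroup Γ) = s ^ (Nat.card L).factorization s ∧
      (Nat.card H).factorization s = (Nat.card L).factorization s := by
    intro s _ hs
    obtain ⟨T, hT⟩ := CfsgLib.Coprime.exists_invariant_sylow A L hLA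
      (M.toSetup.coprime_card (hLH.trans hH)) (Or.inl M.toSetup.isSolvable) s
    have hTc : Nat.card ((T : Subgroup L).map L.subtype) = s ^ (Nat.card L).factorization s := by
      rw [Subgroup.card_subtype, T.card_eq_multiplicity]
    have hle : (T : Subgroup L).map L.subtype ≤ H ⊓ syl A G s :=
      le_inf ((map_subtype_le _).trans hLH) (M.le_syl s ((map_subtype_le _).trans (hLH.trans hH)) hT
        (T.isPGroup'.map _))
    obtain ⟨n, hn⟩ := IsPGroup.iff_card.1
      ((M.syl_isPGroup s).to_le (inf_le_right : H ⊓ syl A G s ≤ syl A G s))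
    have hfac : (Nat.card H).factorization s = (Nat.card L).factorization s := by
      rw [hcardL, ← B.card_mul_index, Nat.factorization_mul Nat.card_pos.ne'
        Subgroup.index_ne_zero_of_finite, Finsupp.add_apply,
        Nat.factorization_eq_zero_of_not_dvd (hB.2 s Fact.out hs), add_zero]
    have hdvd := card_dvd_of_le (inf_le_left : H ⊓ syl A G s ≤ H)
    rw [hn] at hdvd
    have hle2 : n ≤ (Nat.card L).factorization s :=
      hfac ▸ ((Fact.out : s.Prime).pow_dvd_iff_le_factorization Nat.card_pos.ne').1 hdvd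
    have he := eq_of_le_of_card_ge hle
      (by rw [hTc, hn]; exact Nat.pow_le_pow_right (Fact.out : s.Prime).pos hle2)
    exact ⟨he ▸ map_subtype_le _, by rw [← he, hTc], hfac⟩
  exact ⟨L, hLH, hLA, fun s hs hd => hB.1 s hs (hcardL ▸ hd), key⟩

/-- Invariant `{p, r}`-Hall subgroups of proper invariant subgroups. -/
theorem exists_duo (hpr : p ≠ r) {H : Subgroup Γ} (hH : H ≤ G) (hHA : A ≤ normalizer (H : Set Γ))
    (hne : H ≠ G) : ∃ L, Duo A G p r L (H ⊓ syl A G p) (H ⊓ syl A G r) := by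
  obtain ⟨L, hLH, hLA, hπ, key⟩ := M.exists_inv_hall {p, r} hH hHA hne
  obtain ⟨hPL, hPc, -⟩ := key p (Or.inl rfl)
  obtain ⟨hQL, hQc, -⟩ := key r (Or.inr rfl)
  refine ⟨L, ⟨hLH.trans hH, hLA, le_normalizer_inf hHA (M.inv_syl p),
    le_normalizer_inf hHA (M.inv_syl r), hPL, hQL, (M.syl_isPGroup p).to_le inf_le_right,
    (M.syl_isPGroup r).to_le inf_le_right, ?_⟩⟩
  set P₀ := H ⊓ syl A G p with hP₀
  set Q₀ := H ⊓ syl A G r with hQ₀
  let g : P₀ × Q₀ → L := fun z => ⟨(z.1 : Γ) * z.2, L.mul_mem (hPL z.1.2) (hQL z.2.2)⟩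
  have hg : Function.Injective g := by
    intro z w h
    exact Subgroup.mul_injective_of_disjoint (disjoint_iff.2 (disjoint_of_pGroups hpr
      ((M.syl_isPGroup p).to_le inf_le_right) ((M.syl_isPGroup r).to_le inf_le_right)))
      (congrArg Subtype.val h)
  have hcard : Nat.card L ≤ Nat.card P₀ * Nat.card Q₀ := by
    rw [hPc, hQc]
    refine Nat.le_of_dvd (Nat.mul_pos (pow_pos hp.out.pos _) (pow_pos hr.out.pos _)) ?_
    refine (Nat.factorization_le_iff_dvd Nat.card_pos.ne'
      (Nat.mul_pos (pow_pos hp.out.pos _) (pow_pos hr.out.pos _)).ne').1 fun s => ?_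
    rw [Nat.factorization_mul (pow_pos hp.out.pos _).ne' (pow_pos hr.out.pos _).ne',
      hp.out.factorization_pow, hr.out.factorization_pow, Finsupp.add_apply]
    by_cases hsp : s = p
    · subst hsp; simp
    by_cases hsr : s = r
    · subst hsr; simp
    have : (Nat.card L).factorization s = 0 := by
      by_cases hs : s.Prime
      · refine Nat.factorization_eq_zero_of_not_dvd fun hd => ?_
        rcases hπ s hs hd with h | h
        · exact hsp h
        · exact hsr h
      · exact Nat.factorization_eq_zero_of_not_prime _ hs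
    omega
  have hgb := (Nat.bijective_iff_injective_and_card g).2
    ⟨hg, le_antisymm (Nat.card_le_card_of_injective g hg) (by rw [Nat.card_prod]; exact hcard)⟩
  intro y hy
  obtain ⟨⟨u, v⟩, huv⟩ := hgb.2 ⟨y, hy⟩
  exact ⟨u, u.2, v, v.2, congrArg Subtype.val huv⟩

theorem star_spec (hpr : p ≠ r) : star A G p r ≤ syl A G r ∧
    ∃ L, Duo A G p r L (syl A G p) (star A G p r) := by
  set s := {Q₀ | Q₀ ≤ syl A G r ∧ ∃ L, Duo A G p r L (syl A G p) Q₀} with hs
  have hbot : (⊥ : Subgroup Γ) ∈ s := by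
    refine ⟨bot_le, syl A G p, M.syl_le p, M.inv_syl p, M.inv_syl p, ?_, le_rfl, bot_le,
      M.syl_isPGroup p, IsPGroup.of_bot, fun x hx => ⟨x, hx, 1, one_mem _, mul_one x⟩⟩
    exact le_normalizer_iff.2 fun b _ x hx => by simp [mem_bot.1 hx]
  have hsup : ∀ Q₁ ∈ s, ∀ Q₂ ∈ s, Q₁ ⊔ Q₂ ∈ s := by
    rintro Q₁ ⟨h1, L₁, D₁⟩ Q₂ ⟨h2, L₂, D₂⟩
    refine ⟨sup_le h1 h2, L₁ ⊔ L₂, sup_le D₁.le D₂.le, le_normalizer_sup D₁.invL D₂.invL,
      M.inv_syl p, le_normalizer_sup D₁.invQ D₂.invQ, D₁.leP.trans le_sup_left,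
      sup_le_sup D₁.leQ D₂.leQ, M.syl_isPGroup p, (M.syl_isPGroup r).to_le (sup_le h1 h2), ?_⟩
    intro x hx
    have hstep : ∀ (L Q : Subgroup Γ), Duo A G p r L (syl A G p) Q → Q ≤ Q₁ ⊔ Q₂ →
        ∀ l ∈ L, ∀ y, (∃ u ∈ syl A G p, ∃ v ∈ Q₁ ⊔ Q₂, u * v = y) →
          ∃ u ∈ syl A G p, ∃ v ∈ Q₁ ⊔ Q₂, u * v = l * y := by
      rintro L Q D hQ l hl y ⟨u, hu, v, hv, rfl⟩
      obtain ⟨u', hu', v', hv', he⟩ := D.mul (l * u) (L.mul_mem hl (D.leP hu))
      exact ⟨u', hu', v' * v, mul_mem (hQ hv') hv, by rw [← mul_assoc, he, mul_assoc]⟩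
    rw [sup_eq_closure] at hx
    induction hx using closure_induction_left with
    | one => exact ⟨1, one_mem _, 1, one_mem _, mul_one 1⟩
    | mul_left l hl y _ ih =>
      rcases hl with hl | hl
      · exact hstep L₁ Q₁ D₁ le_sup_left l hl y ih
      · exact hstep L₂ Q₂ D₂ le_sup_right l hl y ih
    | inv_mul_cancel l hl y _ ih =>
      rcases hl with hl | hl
      · exact hstep L₁ Q₁ D₁ le_sup_left l⁻¹ (L₁.inv_mem hl) y ih
      · exact hstep L₂ Q₂ D₂ le_sup_right l⁻¹ (L₂.inv_mem hl) y ih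
  obtain ⟨T, hT⟩ := (Set.toFinite s).exists_maximal ⟨⊥, hbot⟩
  have heq : star A G p r = T := by
    refine le_antisymm (sSup_le fun Q hQ => ?_) (le_sSup hT.1)
    exact le_sup_left.trans (hT.2 (hsup Q hQ T hT.1) le_sup_right)
  rw [heq]
  exact hT.1

theorem star_le (hpr : p ≠ r) : star A G p r ≤ syl A G r := (M.star_spec hpr).1

theorem inv_star (hpr : p ≠ r) : A ≤ normalizer (star A G p r : Set Γ) := by
  obtain ⟨-, L, D⟩ := M.star_spec hpr
  exact D.invQ

theorem le_star {L Q₀ : Subgroup Γ} (hQ : Q₀ ≤ syl A G r) (D : Duo A G p r L (syl A G p) Q₀) :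
    Q₀ ≤ star A G p r := le_sSup ⟨hQ, L, D⟩

theorem inf_le_star (hpr : p ≠ r) {H : Subgroup Γ} (hH : H ≤ G) (hHA : A ≤ normalizer (H : Set Γ))
    (hne : H ≠ G) (hPH : syl A G p ≤ H) : H ⊓ syl A G r ≤ star A G p r := by
  obtain ⟨L, D⟩ := M.exists_duo (r := r) hpr hH hHA hne
  rw [inf_eq_right.2 hPH] at D
  exact M.le_star inf_le_right D

/-- Every invariant `r`-group normalized by part of `Z(P)` permutes with `P`. -/
theorem le_star_of_normalized (hpr : p ≠ r) (hd : p ∣ Nat.card G) {a : Γ} (ha : a ∈ A) (ha1 : a ≠ 1)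
    {X : Subgroup Γ} (hXz : X ≤ zc A G p ⊓ centralizer ({a} : Set Γ))
    (hXA : A ≤ normalizer (X : Set Γ)) (hX1 : X ≠ ⊥) {Y : Subgroup Γ} (hY : Y ≤ syl A G r)
    (hYA : A ≤ normalizer (Y : Set Γ)) (hXY : X ≤ normalizer (Y : Set Γ)) :
    Y ≤ star A G p r := by
  set P := syl A G p with hP
  have hXP : X ≤ P := (hXz.trans inf_le_left).trans inf_le_left
  have hXG : X ≤ G := hXP.trans (M.syl_le p)
  have hYr : IsPGroup r Y := (M.syl_isPGroup r).to_le hY
  haveI : Group.IsNilpotent Y := hYr.isNilpotent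
  have hYG : Y ≤ G := hY.trans (M.syl_le r)
  rw [← CfsgLib.Coprime.commutator_sup_centralizer X Y hXY
    (IsPGroup.coprime_card_of_ne p r hpr X Y ((M.syl_isPGroup p).to_le hXP) hYr)
    (Or.inr inferInstance)]
  refine sup_le ?_ ?_
  · set D := ⁅P, zpowers a⁆ with hD
    have haP : zpowers a ≤ normalizer (P : Set Γ) := (zpowers_le.2 ha).trans (M.inv_syl p)
    have hDP : D ≤ P := CfsgLib.Coprime.commutator_le_of_normalizes haP
    have hAz : A ≤ normalizer (zpowers a : Set Γ) := le_normalizer_iff.2 fun b hb z hz => by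
      rwa [(M.toSetup.commute hb (zpowers_le.2 ha hz)).eq, mul_inv_cancel_right]
    have hDA : A ≤ normalizer (D : Set Γ) := le_normalizer_commutator (M.inv_syl p) hAz
    have hD1 : D ≠ ⊥ := by
      intro e
      rw [hD, Subgroup.commutator_eq_bot_iff_le_centralizer, zpowers_eq_closure, centralizer_closure] at e
      exact M.not_syl_le_centralizer p ha ha1 hd e
    have hcom : ⁅Y, X⁆ ≤ centralizer (D : Set Γ) := by
      rw [Subgroup.le_centralizer_iff]
      refine M.toSetup.commutator_le_centralizer_set ha ha1 (M.syl_le p) (M.inv_syl p)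
        (M.syl_isPGroup p) _ fun c hc hca y hy => ?_
      refine M.toSetup.mem_centralizer_commutator ha ha1 hc hca hpr hXG hXA
        ((M.syl_isPGroup p).to_le hXP) (fun x hx => mem_centralizer_iff_commute.1 (hXz hx).2) hYG hYA hYr
        hXY (M.syl_le p hy.1) (mem_centralizer_iff_commute.1 hy.2) fun x hx => ?_
      have hxy : y * x = x * y := mem_centralizer_iff.1 (hXz hx).1.2 y hy.1
      have e : y⁻¹ * (x⁻¹ * y * x) = 1 := by
        calc y⁻¹ * (x⁻¹ * y * x) = y⁻¹ * (x⁻¹ * (y * x)) := by group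
          _ = 1 := by rw [hxy]; group
      rw [e]
      exact one_mem _
    refine le_trans (le_inf (le_inf ((CfsgLib.Coprime.commutator_le_of_normalizes hXY).trans hYG)
      (hcom.trans (centralizer_le_normalizer _)))
      ((CfsgLib.Coprime.commutator_le_of_normalizes hXY).trans hY)) ?_
    refine M.inf_le_star hpr inf_le_left
      (le_normalizer_inf M.le_normalizer (le_normalizer_normalizer hDA))
      (M.normalizer_ne (hDP.trans (M.syl_le p)) hDA hD1 fun e => ?_) (le_inf (M.syl_le p) ?_)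
    · exact M.syl_ne p (le_antisymm (M.syl_le p) (e.ge.trans hDP))
    · exact CfsgLib.Coprime.le_normalizer_commutator_left _ _
  · refine le_trans (le_inf (le_inf (inf_le_left.trans hYG) inf_le_right) (inf_le_left.trans hY)) ?_
    refine M.inf_le_star hpr inf_le_left
      (le_normalizer_inf M.le_normalizer (le_normalizer_centralizer hXA))
      (M.centralizer_ne hXG hX1) (le_inf (M.syl_le p) ?_)
    exact Subgroup.le_centralizer_iff.1 ((hXz.trans inf_le_left).trans inf_le_right)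

end Pair

end Min

end CfsgLib.QSq
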