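import Cfsg.Agent.Lib.QSquared.Minimal
import Cfsg.Agent.Lib.Frobenius.ZJComplement

/-! In a minimal counterexample any two invariant Sylow subgroups permute. -/

set_option autoImplicit false
set_option linter.style.haveILetI false
set_option linter.unusedSectionVars false
set_option maxHeartbeats 1000000

open scoped commutatorElement Pointwise
open Subgroup

namespace CfsgLib.QSq.Min

variable {Γ : Type*} [Group Γ] [Finite Γ] {q : ℕ} {A G : Subgroup Γ} (M : Min q A G)
include M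

variable {p r : ℕ} [hp : Fact p.Prime] [hr : Fact r.Prime]

omit M hp hr in
theorem core_normal {L : Subgroup Γ} (s : ℕ) {Y : Subgroup Γ} (hY : Y ≤ L) :
    Y ≤ normalizer (Cfsg.pCoreOf s L : Set Γ) :=
  hY.trans (CfsgLib.LocalEvenCharP.le_normalizer_pCoreOf s L)

omit M hp hr in
theorem le_centralizer_bot (X : Subgroup Γ) : X ≤ centralizer ((⊥ : Subgroup Γ) : Set Γ) := by
  intro x _
  rw [mem_centralizer_iff]
  intro y hy
  rw [coe_bot, Set.mem_singleton_iff] at hy
  simp [hy]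

omit hr in
theorem eq_of_normalizer_le {P₀ : Subgroup Γ} (h1 : P₀ ≤ syl A G p)
    (h2 : G ⊓ normalizer (P₀ : Set Γ) ⊓ syl A G p ≤ P₀) : P₀ = syl A G p := by
  by_contra hne
  obtain ⟨y, hy, hy1, hyn⟩ :=
    CfsgLib.LocalEvenCharP.exists_mem_normalizer_not_mem (M.syl_isPGroup p) h1 hne
  exact hy1 (h2 ⟨⟨M.syl_le p hy, hyn⟩, hy⟩)

omit hr in
theorem inf_zc_ne_bot {R : Subgroup Γ} (hR : R ≤ syl A G p)
    (hn : syl A G p ≤ normalizer (R : Set Γ)) (h1 : R ≠ ⊥) : R ⊓ zc A G p ≠ ⊥ := by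
  haveI := (M.syl_isPGroup p).isNilpotent
  haveI : (R.subgroupOf (syl A G p)).Normal := normal_subgroupOf_of_le_normalizer hn
  obtain ⟨z, hz, hzc, hz1⟩ := CfsgLib.Coprime39.exists_central_mem (R.subgroupOf (syl A G p))
    (fun e => h1 (eq_bot_iff.2 fun x hx => by
      have : (⟨x, hR hx⟩ : syl A G p) ∈ R.subgroupOf (syl A G p) := hx
      rw [e, mem_bot] at this
      exact mem_bot.2 (congrArg Subtype.val this)))
  intro e
  refine hz1 (Subtype.ext ?_)
  have h : (z : Γ) ∈ R ⊓ zc A G p := ⟨hz, z.2, mem_centralizer_iff.2 fun y hy =>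
    congrArg Subtype.val (mem_center_iff.1 hzc ⟨y, hy⟩)⟩
  rwa [e, mem_bot] at h

omit hr in
theorem zc_ne_bot (hd : p ∣ Nat.card G) : zc A G p ≠ ⊥ := fun e =>
  M.inf_zc_ne_bot le_rfl Subgroup.le_normalizer (M.syl_ne_bot p hd)
    (eq_bot_iff.2 (inf_le_right.trans e.le))

omit hr in
/-- A nontrivial invariant subgroup of `Z(P)` has a nontrivial piece fixed by some element. -/
theorem exists_piece {R : Subgroup Γ} (hR : R ≤ zc A G p) (hRA : A ≤ normalizer (R : Set Γ))
    (h1 : R ≠ ⊥) : ∃ a ∈ A, a ≠ 1 ∧ ∃ X : Subgroup Γ, X ≠ ⊥ ∧ X ≤ R ∧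
      A ≤ normalizer (X : Set Γ) ∧ X ≤ zc A G p ⊓ centralizer ({a} : Set Γ) := by
  obtain ⟨a, ha, ha1, h⟩ := M.exists_fix_ne_bot
    ((hR.trans (M.zc_le p)).trans (M.syl_le p)) hRA h1
  exact ⟨a, ha, ha1, _, h, inf_le_left, M.toSetup.le_normalizer_fix ha hRA, inf_le_inf_right _ hR⟩

section

variable (hpr : p ≠ r) {K : Subgroup Γ}
  (DK : Duo A G p r K (syl A G p) (star A G p r))
include hpr DK

theorem core_le_syl : Cfsg.pCoreOf p K ≤ syl A G p := DK.pCoreOf_le hpr

theorem core_le_star : Cfsg.pCoreOf r K ≤ star A G p r := DK.symm.pCoreOf_le (Ne.symm hpr)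

theorem centralizer_core_le :
    star A G p r ⊓ centralizer (Cfsg.pCoreOf p K : Set Γ) ≤ Cfsg.pCoreOf r K :=
  DK.symm.inf_centralizer_le M.toSetup (Ne.symm hpr)

theorem syl_le_core (hR : Cfsg.pCoreOf r K = ⊥) : syl A G p ≤ Cfsg.pCoreOf p K := by
  refine le_trans (le_inf le_rfl ?_) (DK.inf_centralizer_le M.toSetup hpr)
  rw [hR]
  exact le_centralizer_bot _

theorem core_ne_bot (hd : p ∣ Nat.card G) (hne : star A G p r ≠ syl A G r) :
    Cfsg.pCoreOf p K ≠ ⊥ := by
  intro hU
  have hsR : star A G p r ≤ Cfsg.pCoreOf r K := by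
    refine le_trans (le_inf le_rfl ?_) (M.centralizer_core_le hpr DK)
    rw [hU]
    exact le_centralizer_bot _
  have heq : Cfsg.pCoreOf r K = star A G p r := le_antisymm (M.core_le_star hpr DK) hsR
  rcases eq_or_ne (star A G p r) ⊥ with h0 | h0
  · exact M.syl_ne_bot p hd (eq_bot_iff.2 ((M.syl_le_core hpr DK (heq.trans h0)).trans hU.le))
  refine hne (M.eq_of_normalizer_le (M.star_le hpr) ?_)
  have hPn : syl A G p ≤ normalizer (star A G p r : Set Γ) := heq ▸ core_normal r DK.leP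
  exact M.inf_le_star hpr inf_le_left
    (le_normalizer_inf M.le_normalizer (le_normalizer_normalizer (M.inv_star hpr)))
    (M.normalizer_ne ((M.star_le hpr).trans (M.syl_le r)) (M.inv_star hpr) h0
      (fun e => M.syl_ne r (le_antisymm (M.syl_le r) (e.ge.trans (M.star_le hpr)))))
    (le_inf (M.syl_le p) hPn)

theorem zc_le_star (hR : Cfsg.pCoreOf r K ≠ ⊥) : zc A G r ≤ star A G p r := by
  set R := Cfsg.pCoreOf r K
  have hRQ : R ≤ syl A G r := (M.core_le_star hpr DK).trans (M.star_le hpr)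
  refine le_trans (le_inf (le_inf (inf_le_left.trans (M.syl_le r)) ?_) (M.zc_le r))
    (M.inf_le_star hpr inf_le_left
      (le_normalizer_inf M.le_normalizer (le_normalizer_normalizer DK.symm.inv_pCoreOf))
      (M.normalizer_ne (hRQ.trans (M.syl_le r)) DK.symm.inv_pCoreOf hR
        (fun e => M.syl_ne r (le_antisymm (M.syl_le r) (e.ge.trans hRQ))))
      (le_inf (M.syl_le p) (core_normal r DK.leP)))
  exact (inf_le_right.trans (centralizer_le hRQ)).trans (centralizer_le_normalizer _)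

/-- Part of `Z(Q)` inside `Q*` pushes `O_p` into `P*`. -/
theorem core_le_star_symm (hdr : r ∣ Nat.card G) (h : star A G p r ⊓ zc A G r ≠ ⊥) :
    Cfsg.pCoreOf p K ≤ star A G r p := by
  obtain ⟨d, hd, hd1, V, hV, hVle, hVA, hVz⟩ :=
    M.exists_piece inf_le_right (le_normalizer_inf (M.inv_star hpr) (M.inv_zc r)) h
  exact M.le_star_of_normalized (Ne.symm hpr) hdr hd hd1 hVz hVA hV (M.core_le_syl hpr DK)
    DK.inv_pCoreOf (core_normal p ((hVle.trans inf_le_left).trans DK.leQ))

end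

section

variable (hpr : p ≠ r) (hdp : p ∣ Nat.card G) (hdr : r ∣ Nat.card G)
  (hne : star A G p r ≠ syl A G r) (hne' : star A G r p ≠ syl A G p) {K H : Subgroup Γ}
  (DK : Duo A G p r K (syl A G p) (star A G p r))
  (DH : Duo A G r p H (syl A G r) (star A G r p))
include hpr hdp hdr hne hne' DK DH

theorem core_eq_bot_imp (hR : Cfsg.pCoreOf r K = ⊥) :
    star A G p r ⊓ zc A G r = ⊥ ∧ Cfsg.pCoreOf p H = ⊥ := by
  have hQz : star A G p r ⊓ zc A G r = ⊥ := by
    by_contra h
    exact hne' (le_antisymm (M.star_le (Ne.symm hpr))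
      ((M.syl_le_core hpr DK hR).trans (M.core_le_star_symm hpr DK hdr h)))
  refine ⟨hQz, ?_⟩
  by_contra hU'
  have hzP := M.zc_le_star (Ne.symm hpr) DH hU'
  have hR' : Cfsg.pCoreOf r H ≤ star A G p r :=
    M.core_le_star_symm (Ne.symm hpr) DH hdp (by rw [inf_eq_right.2 hzP]; exact M.zc_ne_bot hdp)
  have hR'1 : Cfsg.pCoreOf r H ≠ ⊥ := M.core_ne_bot (Ne.symm hpr) DH hdr hne'
  refine M.inf_zc_ne_bot (M.core_le_syl (Ne.symm hpr) DH) (core_normal r DH.leP) hR'1 ?_
  exact eq_bot_iff.2 ((inf_le_inf_right _ hR').trans hQz.le)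

theorem cores_eq_bot : Cfsg.pCoreOf r K = ⊥ := by
  by_contra hR
  have hU' : Cfsg.pCoreOf p H ≠ ⊥ := fun e =>
    hR (M.core_eq_bot_imp (Ne.symm hpr) hdr hdp hne' hne DH DK e).2
  set U := Cfsg.pCoreOf p K with hU
  set R := Cfsg.pCoreOf r K with hRdef
  set U' := Cfsg.pCoreOf p H with hU'def
  set R' := Cfsg.pCoreOf r H with hR'def
  have hUs : U ≤ star A G r p := M.core_le_star_symm hpr DK hdr
    (by rw [inf_eq_right.2 (M.zc_le_star hpr DK hR)]; exact M.zc_ne_bot hdr)
  have hR's : R' ≤ star A G p r := M.core_le_star_symm (Ne.symm hpr) DH hdp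
    (by rw [inf_eq_right.2 (M.zc_le_star (Ne.symm hpr) DH hU')]; exact M.zc_ne_bot hdp)
  have hUp : IsPGroup p U := CfsgLib.LocalEvenCharP.isPGroup_pCoreOf p K
  have hU'p : IsPGroup p U' := CfsgLib.LocalEvenCharP.isPGroup_pCoreOf p H
  have hRr : IsPGroup r R := CfsgLib.LocalEvenCharP.isPGroup_pCoreOf r K
  have hR'r : IsPGroup r R' := CfsgLib.LocalEvenCharP.isPGroup_pCoreOf r H
  have hcomm : ∀ (X Y : Subgroup Γ), IsPGroup p X → IsPGroup r Y →
      X ≤ normalizer (Y : Set Γ) → Y ≤ normalizer (X : Set Γ) → X ≤ centralizer (Y : Set Γ) := by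
    intro X Y hX hY h1 h2
    rw [← Subgroup.commutator_eq_bot_iff_le_centralizer, eq_bot_iff, ← disjoint_of_pGroups hpr hX hY]
    refine le_inf (CfsgLib.Coprime.commutator_le_of_normalizes h2) ?_
    rw [commutator_comm]
    exact CfsgLib.Coprime.commutator_le_of_normalizes h1
  have h1 : R' ≤ R := by
    refine le_trans (le_inf hR's (Subgroup.le_centralizer_iff.1 ?_)) (M.centralizer_core_le hpr DK)
    exact hcomm U R' hUp hR'r (core_normal r (hUs.trans DH.leQ)) (core_normal p (hR's.trans DK.leQ))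
  have hRQ : R ≤ syl A G r := (M.core_le_star hpr DK).trans (M.star_le hpr)
  have hU'P : U' ≤ syl A G p := (M.core_le_star (Ne.symm hpr) DH).trans (M.star_le (Ne.symm hpr))
  have h2 : R ≤ R' := by
    refine le_trans (le_inf hRQ (Subgroup.le_centralizer_iff.1 ?_))
      (DH.inf_centralizer_le M.toSetup (Ne.symm hpr))
    exact hcomm U' R hU'p hRr (core_normal r (hU'P.trans DK.leP)) (core_normal p (hRQ.trans DH.leP))
  have he : R = R' := le_antisymm h2 h1
  refine hne (le_antisymm (M.star_le hpr) ?_)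
  refine le_trans (le_inf (le_inf (M.syl_le r) ?_) le_rfl) (M.inf_le_star hpr inf_le_left
    (le_normalizer_inf M.le_normalizer (le_normalizer_normalizer DK.symm.inv_pCoreOf))
    (M.normalizer_ne (hRQ.trans (M.syl_le r)) DK.symm.inv_pCoreOf hR
      (fun e => M.syl_ne r (le_antisymm (M.syl_le r) (e.ge.trans hRQ))))
    (le_inf (M.syl_le p) (core_normal r DK.leP)))
  rw [← hRdef, he]
  exact core_normal r DH.leP

/-- No element fixes nontrivial elements of both Sylow subgroups. -/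
theorem disjoint_supports : ∀ c ∈ A, c ≠ 1 →
    syl A G p ⊓ centralizer ({c} : Set Γ) = ⊥ ∨ syl A G r ⊓ centralizer ({c} : Set Γ) = ⊥ := by
  set P := syl A G p with hP
  set Q := syl A G r with hQ
  have hR := M.cores_eq_bot hpr hdp hdr hne hne' DK DH
  have hQz := (M.core_eq_bot_imp hpr hdp hdr hne hne' DK DH hR).1
  have hU' := (M.core_eq_bot_imp hpr hdp hdr hne hne' DK DH hR).2
  have hPz := (M.core_eq_bot_imp (Ne.symm hpr) hdr hdp hne' hne DH DK hU').1
  have hPU := M.syl_le_core hpr DK hR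
  have hUP : Cfsg.pCoreOf p K = P := le_antisymm (M.core_le_syl hpr DK) hPU
  obtain ⟨a, ha, ha1, X, hX1, hXz', hXA, hXz⟩ :=
    M.exists_piece le_rfl (M.inv_zc p) (M.zc_ne_bot hdp)
  have hXP : X ≤ P := hXz'.trans (M.zc_le p)
  -- every subgroup with a piece of `Z(P)` has its `r`-part in `Q*`
  have key : ∀ P₀ Q₀ : Subgroup Γ, P₀ ≤ P → Q₀ ≤ Q → (∃ L, Duo A G p r L P₀ Q₀) → X ≤ P₀ →
      Q₀ ≤ star A G p r := by
    intro P₀ Q₀ hP₀ hQ₀ hD hX₀
    obtain ⟨⟨P₁, Q₁⟩, hle, hmax⟩ := (Set.toFinite {z : Subgroup Γ × Subgroup Γ | z.1 ≤ P ∧ z.2 ≤ Q ∧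
      (∃ L, Duo A G p r L z.1 z.2) ∧ X ≤ z.1}).exists_le_maximal
        (a := (P₀, Q₀)) ⟨hP₀, hQ₀, hD, hX₀⟩
    obtain ⟨⟨hP₁, hQ₁, ⟨L, D⟩, hX₁⟩, hmax'⟩ := hmax
    refine (show Q₀ ≤ Q₁ from hle.2).trans ?_
    set U₁ := Cfsg.pCoreOf p L with hU₁
    set R₁ := Cfsg.pCoreOf r L with hR₁
    have hR₁Q : R₁ ≤ Q := (D.symm.pCoreOf_le (Ne.symm hpr)).trans hQ₁
    have hR₁s : R₁ ≤ star A G p r := M.le_star_of_normalized hpr hdp ha ha1 hXz hXA hX1 hR₁Q
      D.symm.inv_pCoreOf (core_normal r (hX₁.trans D.leP))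
    have hXR : X ≤ centralizer (R₁ : Set Γ) := by
      rw [← Subgroup.commutator_eq_bot_iff_le_centralizer, eq_bot_iff, ← disjoint_of_pGroups hpr
        (M.syl_isPGroup p) ((M.syl_isPGroup r).to_le hR₁Q)]
      refine le_inf ((commutator_mono hXP le_rfl).trans
        (CfsgLib.Coprime.commutator_le_of_normalizes ?_)) ?_
      · rw [← hUP]
        exact core_normal p (hR₁s.trans DK.leQ)
      · rw [commutator_comm]
        exact CfsgLib.Coprime.commutator_le_of_normalizes (core_normal r (hX₁.trans D.leP))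
    have hXU : X ≤ U₁ := (le_inf hX₁ hXR).trans (D.inf_centralizer_le M.toSetup hpr)
    have hU₁P : U₁ ≤ P := (D.pCoreOf_le hpr).trans hP₁
    have hgrow : ∀ N : Subgroup Γ, N ≤ G → A ≤ normalizer (N : Set Γ) → N ≠ G → L ≤ N →
        N ⊓ P ≤ P₁ ∧ N ⊓ Q ≤ Q₁ := by
      intro N hN hNA hNne hLN
      obtain ⟨L', D'⟩ := M.exists_duo (p := p) (r := r) hpr hN hNA hNne
      exact hmax' (y := (N ⊓ P, N ⊓ Q)) ⟨inf_le_right, inf_le_right, ⟨L', D'⟩,
        le_inf ((hX₁.trans D.leP).trans hLN) hXP⟩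
        ⟨le_inf (D.leP.trans hLN) hP₁, le_inf (D.leQ.trans hLN) hQ₁⟩
    have hU₁1 : U₁ ≠ ⊥ := fun e => hX1 (eq_bot_iff.2 (hXU.trans e.le))
    obtain ⟨g1, g2⟩ := hgrow (G ⊓ normalizer (U₁ : Set Γ)) inf_le_left
      (le_normalizer_inf M.le_normalizer (le_normalizer_normalizer D.inv_pCoreOf))
      (M.normalizer_ne (hU₁P.trans (M.syl_le p)) D.inv_pCoreOf hU₁1
        (fun e => M.syl_ne p (le_antisymm (M.syl_le p) (e.ge.trans hU₁P))))
      (le_inf D.le (core_normal p le_rfl))
    rcases eq_or_ne R₁ ⊥ with h0 | h0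
    · have h1 : U₁ = P₁ := le_antisymm (D.pCoreOf_le hpr) (by
        refine le_trans (le_inf le_rfl ?_) (D.inf_centralizer_le M.toSetup hpr)
        rw [← hR₁, h0]
        exact le_centralizer_bot _)
      have h2 : U₁ = P := M.eq_of_normalizer_le hU₁P (g1.trans h1.ge)
      have h3 : P₁ = P := h1.symm.trans h2
      exact M.le_star hQ₁ (h3 ▸ D)
    · obtain ⟨-, g4⟩ := hgrow (G ⊓ normalizer (R₁ : Set Γ)) inf_le_left
        (le_normalizer_inf M.le_normalizer (le_normalizer_normalizer D.symm.inv_pCoreOf))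
        (M.normalizer_ne (hR₁Q.trans (M.syl_le r)) D.symm.inv_pCoreOf h0
          (fun e => M.syl_ne r (le_antisymm (M.syl_le r) (e.ge.trans hR₁Q))))
        (le_inf D.le (core_normal r le_rfl))
      exfalso
      have hzQ : zc A G r ≤ Q₁ := le_trans (le_inf (le_inf ((M.zc_le r).trans (M.syl_le r))
        ((inf_le_right.trans (centralizer_le hR₁Q)).trans (centralizer_le_normalizer _)))
        (M.zc_le r)) g4
      obtain ⟨d, hd, hd1, V, hV1, hVz', hVA, hVz⟩ :=
        M.exists_piece le_rfl (M.inv_zc r) (M.zc_ne_bot hdr)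
      have hU₁s : U₁ ≤ star A G r p := M.le_star_of_normalized (Ne.symm hpr) hdr hd hd1 hVz hVA hV1
        hU₁P D.inv_pCoreOf (core_normal p ((hVz'.trans hzQ).trans D.leQ))
      exact hX1 (eq_bot_iff.2 ((le_inf (hXU.trans hU₁s) hXz').trans hPz.le))
  have hline : ∀ c ∈ A, c ≠ 1 → P ⊓ centralizer ({c} : Set Γ) ≠ ⊥ →
      Q ⊓ centralizer ({c} : Set Γ) ≤ star A G p r := by
    intro c hc hc1 hPc
    set Pc := P ⊓ centralizer ({c} : Set Γ) with hPcdef
    have hPcA : A ≤ normalizer (Pc : Set Γ) := M.toSetup.le_normalizer_fix hc (M.inv_syl p)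
    have hPcG : Pc ≤ G := inf_le_left.trans (M.syl_le p)
    obtain ⟨L, D⟩ := M.exists_duo (p := p) (r := r) hpr (H := G ⊓ centralizer (Pc : Set Γ))
      inf_le_left (le_normalizer_inf M.le_normalizer (le_normalizer_centralizer hPcA))
      (M.centralizer_ne hPcG hPc)
    refine le_trans (le_inf (le_inf (inf_le_left.trans (M.syl_le r)) ?_) inf_le_left)
      (key _ _ inf_le_right inf_le_right ⟨L, D⟩ (le_inf (le_inf (hXP.trans (M.syl_le p))
        ((hXz'.trans inf_le_right).trans (centralizer_le inf_le_left))) hXP))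
    exact fun y hy => mem_centralizer_iff.2 fun x hx => (M.abelian c hc hc1 x (hPcG hx) y
      (M.syl_le r hy.1) (mem_centralizer_iff_commute.1 hx.2)
      (mem_centralizer_iff_commute.1 hy.2)).eq
  intro c hc hc1
  by_contra h
  push Not at h
  obtain ⟨hPc, hQc⟩ := h
  set T := Q ⊓ centralizer ({c} : Set Γ) with hT
  have hTs : T ≤ star A G p r := hline c hc hc1 hPc
  have hTP : T ≤ normalizer (P : Set Γ) := hUP ▸ core_normal p (hTs.trans DK.leQ)
  have hPT : ⁅P, T⁆ ≠ ⊥ := by
    rw [Ne, Subgroup.commutator_eq_bot_iff_le_centralizer, Subgroup.le_centralizer_iff]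
    intro h
    refine hQc (eq_bot_iff.2 ?_)
    rw [← hR]
    refine le_trans (le_inf hTs ?_) (M.centralizer_core_le hpr DK)
    rw [hUP]
    exact h
  have hall : ∀ e ∈ A, e ≠ 1 → P ⊓ centralizer ({e} : Set Γ) ≠ ⊥ := by
    intro e he he1
    by_cases hec : e ∈ zpowers c
    · rwa [M.toSetup.fix_eq hc hc1 hec he1]
    intro h0
    apply hPT
    have hYP : ⁅P, T⁆ ≤ P := CfsgLib.Coprime.commutator_le_of_normalizes hTP
    have hcop : (Nat.card T).Coprime (Nat.card P) := IsPGroup.coprime_card_of_ne r p (Ne.symm hpr)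
      T P ((M.syl_isPGroup r).to_le inf_le_left) (M.syl_isPGroup p)
    haveI := (M.syl_isPGroup p).isNilpotent
    rw [eq_bot_iff]
    refine M.toSetup.le_of_generation hc hc1 he hec (inf_le_left.trans (M.syl_le r))
      (M.toSetup.le_normalizer_fix hc (M.inv_syl r)) (fun x hx => mem_centralizer_iff_commute.1 hx.2)
      (hYP.trans (M.syl_le p)) (le_normalizer_commutator (M.inv_syl p)
        (M.toSetup.le_normalizer_fix hc (M.inv_syl r))) ((M.syl_isPGroup p).to_le hYP)
      (CfsgLib.Coprime.le_normalizer_commutator_right P T)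
      (hcop.coprime_dvd_right (card_dvd_of_le hYP))
      (CfsgLib.Coprime.commutator_commutator_eq T P hTP hcop (Or.inr inferInstance)) ?_
    intro x _ w hw hew
    have h1 : w ∈ P ⊓ centralizer ({e} : Set Γ) := ⟨hYP hw, mem_centralizer_iff_commute.2 hew⟩
    rw [h0, mem_bot] at h1
    simp [h1]
  exact hne (le_antisymm (M.star_le hpr) (M.toSetup.le_of_forall_fix (M.syl_le r) (M.inv_syl r)
    fun e he he1 => hline e he he1 (hall e he he1)))

end

/-- The disjoint case cannot occur for an odd prime. -/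
theorem false_of_disjoint (hpr : p ≠ r) (hp2 : p ≠ 2) (hdp : p ∣ Nat.card G) (hdr : r ∣ Nat.card G)
    (hdis : ∀ c ∈ A, c ≠ 1 →
      syl A G p ⊓ centralizer ({c} : Set Γ) = ⊥ ∨ syl A G r ⊓ centralizer ({c} : Set Γ) = ⊥) :
    False := by
  set P := syl A G p with hP
  have hPb := M.syl_ne_bot p hdp
  set Z := CfsgLib.PLocal.zj 0 P with hZ
  have hZ1 : Z ≠ ⊥ := CfsgLib.Frobenius.ZJComp.zj_ne_bot (Or.inl rfl) (M.syl_isPGroup p) hPb
  have hZA : A ≤ normalizer (Z : Set Γ) :=
    (M.inv_syl p).trans (CfsgLib.PLocal.normalizer_le_normalizer_zj 0 P)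
  have hZP : Z ≤ P := CfsgLib.PLocal.zj_le 0 P
  set N := G ⊓ normalizer (Z : Set Γ) with hN
  have hNA : A ≤ normalizer (N : Set Γ) := le_normalizer_inf M.le_normalizer (le_normalizer_normalizer hZA)
  have hNne : N ≠ G := M.normalizer_ne (hZP.trans (M.syl_le p)) hZA hZ1
    (fun e => M.syl_ne p (le_antisymm (M.syl_le p) (e.ge.trans hZP)))
  have hPN : P ≤ N := le_inf (M.syl_le p)
    (Subgroup.le_normalizer.trans (CfsgLib.PLocal.normalizer_le_normalizer_zj 0 P))
  have hT : ∀ s : ℕ, [Fact s.Prime] → s ≠ p → P ≤ normalizer ((N ⊓ syl A G s : Subgroup Γ) : Set Γ) := by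
    intro s _ hsp
    obtain ⟨L, D⟩ := M.exists_duo (p := p) (r := s) (Ne.symm hsp) inf_le_left hNA hNne
    rw [inf_eq_right.2 hPN] at D
    set T := N ⊓ syl A G s with hTdef
    set U := Cfsg.pCoreOf p L with hU
    have hUP : U ≤ P := D.pCoreOf_le (Ne.symm hsp)
    have hTU : T ≤ normalizer (U : Set Γ) := core_normal p D.leQ
    have hTG : T ≤ G := inf_le_right.trans (M.syl_le s)
    have hTs : IsPGroup s T := D.rQ
    have hTC : T ≤ centralizer (U : Set Γ) := by
      refine M.toSetup.le_of_forall_fix hTG D.invQ fun e he he1 => ?_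
      set Te := T ⊓ centralizer ({e} : Set Γ) with hTe
      by_contra hnot
      have hY1 : ⁅U, Te⁆ ≠ ⊥ := by
        rw [Ne, Subgroup.commutator_eq_bot_iff_le_centralizer, Subgroup.le_centralizer_iff]
        exact hnot
      refine M.not_syl_le_centralizer r he he1 hdr (M.toSetup.le_of_forall_fix (M.syl_le r)
        (M.inv_syl r) fun d hd hd1 => ?_)
      by_cases hde : d ∈ zpowers e
      · rw [M.toSetup.fix_eq he he1 hde hd1]
        exact inf_le_right
      rcases hdis d hd hd1 with h0 | h0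
      · exfalso
        apply hY1
        have hTeU : Te ≤ normalizer (U : Set Γ) := inf_le_left.trans hTU
        have hYU : ⁅U, Te⁆ ≤ U := CfsgLib.Coprime.commutator_le_of_normalizes hTeU
        have hUp : IsPGroup p U := CfsgLib.LocalEvenCharP.isPGroup_pCoreOf p L
        have hcop : (Nat.card Te).Coprime (Nat.card U) :=
          IsPGroup.coprime_card_of_ne s p hsp Te U (hTs.to_le inf_le_left) hUp
        haveI := hUp.isNilpotent
        rw [eq_bot_iff]
        refine M.toSetup.le_of_generation he he1 hd hde (inf_le_left.trans hTG)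
          (M.toSetup.le_normalizer_fix he D.invQ) (fun x hx => mem_centralizer_iff_commute.1 hx.2)
          ((hYU.trans hUP).trans (M.syl_le p)) (le_normalizer_commutator D.inv_pCoreOf
            (M.toSetup.le_normalizer_fix he D.invQ)) (hUp.to_le hYU)
          (CfsgLib.Coprime.le_normalizer_commutator_right U Te)
          (hcop.coprime_dvd_right (card_dvd_of_le hYU))
          (CfsgLib.Coprime.commutator_commutator_eq Te U hTeU hcop (Or.inr inferInstance)) ?_
        intro x _ w hw hdw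
        have h1 : w ∈ P ⊓ centralizer ({d} : Set Γ) :=
          ⟨hUP (hYU hw), mem_centralizer_iff_commute.2 hdw⟩
        rw [h0, mem_bot] at h1
        simp [h1]
      · rw [h0]
        exact bot_le
    have hTR : T = Cfsg.pCoreOf s L := le_antisymm
      ((le_inf le_rfl hTC).trans (D.symm.inf_centralizer_le M.toSetup hsp)) (D.symm.pCoreOf_le hsp)
    rw [hTR]
    exact core_normal s D.leP
  obtain ⟨L, hLN, hLA, hLπ, hkey⟩ := M.exists_inv_hall {s | s ≠ p} (H := N) inf_le_left hNA hNne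
  have hpL : ¬ p ∣ Nat.card L := fun h => hLπ p hp.out h rfl
  have hfac : ∀ s : ℕ, s.Prime → s ≠ p →
      (Nat.card N).factorization s = (Nat.card L).factorization s := fun s hs hsp =>
    haveI := Fact.mk hs; (hkey s hsp).2.2
  have hPL : P ≤ normalizer (L : Set Γ) := by
    have heq : L = ⨆ s : {s : ℕ // s.Prime ∧ s ≠ p}, N ⊓ syl A G (s : ℕ) := by
      refine (eq_of_le_of_card_ge (iSup_le fun s => ?_) (Nat.le_of_dvd Nat.card_pos ?_)).symm
      · haveI := Fact.mk s.2.1
        exact (hkey s s.2.2).1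
      refine (Nat.factorization_le_iff_dvd Nat.card_pos.ne' Nat.card_pos.ne').1 fun s => ?_
      by_cases hs : s.Prime
      · by_cases hsp : s = p
        · subst hsp
          simp [Nat.factorization_eq_zero_of_not_dvd hpL]
        haveI := Fact.mk hs
        have hd := card_dvd_of_le
          (le_iSup (fun s : {s : ℕ // s.Prime ∧ s ≠ p} => N ⊓ syl A G (s : ℕ)) ⟨s, hs, hsp⟩)
        rw [(hkey s hsp).2.1] at hd
        exact (hs.pow_dvd_iff_le_factorization Nat.card_pos.ne').1 hd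
      · simp [Nat.factorization_eq_zero_of_not_prime _ hs]
    rw [heq]
    refine le_normalizer_iff.2 fun x hx z hz => ?_
    suffices h : (⨆ s : {s : ℕ // s.Prime ∧ s ≠ p}, N ⊓ syl A G (s : ℕ)) ≤
        (⨆ s : {s : ℕ // s.Prime ∧ s ≠ p}, N ⊓ syl A G (s : ℕ)).comap (MulAut.conj x).toMonoidHom from h hz
    refine iSup_le fun s w hw => ?_
    haveI := Fact.mk s.2.1
    exact le_iSup (fun s : {s : ℕ // s.Prime ∧ s ≠ p} => N ⊓ syl A G (s : ℕ)) s
      (CfsgLib.Coprime.mem_normalizer_conj (hT s s.2.2 hx) hw)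
  have hNL : N ≤ normalizer (L : Set Γ) := by
    have heq : P ⊔ L = N := by
      refine eq_of_le_of_card_ge (sup_le hPN hLN) (Nat.le_of_dvd Nat.card_pos ?_)
      refine (Nat.factorization_le_iff_dvd Nat.card_pos.ne' Nat.card_pos.ne').1 fun s => ?_
      by_cases hs : s.Prime
      · by_cases hsp : s = p
        · subst hsp
          have hd := card_dvd_of_le (le_sup_left : P ≤ P ⊔ L)
          rw [(M.syl_spec s).2.2.2] at hd
          exact le_trans ((Nat.factorization_le_iff_dvd Nat.card_pos.ne' Nat.card_pos.ne').2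
            (card_dvd_of_le (inf_le_left : N ≤ G)) s)
            ((hs.pow_dvd_iff_le_factorization Nat.card_pos.ne').1 hd)
        rw [hfac s hs hsp]
        exact (Nat.factorization_le_iff_dvd Nat.card_pos.ne' Nat.card_pos.ne').2
          (card_dvd_of_le le_sup_right) s
      · simp [Nat.factorization_eq_zero_of_not_prime _ hs]
    rw [← heq]
    exact sup_le hPL Subgroup.le_normalizer
  haveI hLn : (L.subgroupOf N).Normal := normal_subgroupOf_of_le_normalizer hNL
  have hLc : Nat.card (L.subgroupOf N) = Nat.card L := CfsgLib.Coprime.card_subgroupOf hLN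
  have hq' : IsPGroup p (N ⧸ L.subgroupOf N) := by
    refine IsPGroup.of_card (n := (L.subgroupOf N).index.primeFactorsList.length) ?_
    rw [← Subgroup.index_eq_card]
    refine Nat.eq_prime_pow_of_unique_prime_dvd Subgroup.index_ne_zero_of_finite fun {d} hd hdvd => ?_
    by_contra hne
    have h1 := congrArg (fun n => n.factorization d) (L.subgroupOf N).card_mul_index
    simp only [Nat.factorization_mul Nat.card_pos.ne' Subgroup.index_ne_zero_of_finite,
      Finsupp.add_apply, hLc, hfac d hd hne] at h1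
    have h2 := hd.factorization_pos_of_dvd Subgroup.index_ne_zero_of_finite hdvd
    omega
  have hcN : Cfsg.HasNormalPComplement p N :=
    CfsgLib.Transfer.hasNormalPComplement_of_coprime (L.subgroupOf N) (hLc ▸ hpL) hq'
  apply M.not_hasNormalPComplement p hdp
  let PG : Sylow p G := Sylow.ofCard (P.subgroupOf G)
    (by rw [CfsgLib.Coprime.card_subgroupOf (M.syl_le p)]; exact (M.syl_spec p).2.2.2)
  have hPG : (PG : Subgroup G) = P.subgroupOf G := Sylow.coe_ofCard _ _
  have hzj : CfsgLib.PLocal.zj 0 (PG : Subgroup G) = Z.subgroupOf G := by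
    rw [← Subgroup.comap_map_eq_self_of_injective G.subtype_injective
      (CfsgLib.PLocal.zj 0 (PG : Subgroup G)), ← CfsgLib.PLocal.zj_map G.subtype_injective, hPG,
      Subgroup.map_subgroupOf_eq_of_le (M.syl_le p)]
    rfl
  refine CfsgLib.Frobenius.ZJComp.hasNormalPComplement_of_zj hp2 (Or.inl rfl) PG ?_
  have hnz : normalizer (CfsgLib.PLocal.zj 0 (PG : Subgroup G) : Set G) =
      (normalizer (Z : Set Γ)).subgroupOf G := by
    rw [hzj, ← Subgroup.subgroupOf_normalizer_eq (hZP.trans (M.syl_le p))]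
  rw [hnz]
  exact CfsgLib.Transfer.hasNormalPComplement_of_surjective
    { toFun := fun n : N => (⟨⟨n, n.2.1⟩, n.2.2⟩ : (normalizer (Z : Set Γ)).subgroupOf G)
      map_one' := rfl
      map_mul' := fun _ _ => rfl }
    (fun g => ⟨⟨g.1, g.1.2, g.2⟩, rfl⟩) hcN

/-- Any two invariant Sylow subgroups permute. -/
theorem exists_syl_duo (hpr : p ≠ r) (hdp : p ∣ Nat.card G) (hdr : r ∣ Nat.card G) :
    ∃ L, Duo A G p r L (syl A G p) (syl A G r) := by
  obtain ⟨-, K, DK⟩ := M.star_spec hpr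
  obtain ⟨-, H, DH⟩ := M.star_spec (Ne.symm hpr)
  by_cases hne : star A G p r = syl A G r
  · exact ⟨K, hne ▸ DK⟩
  by_cases hne' : star A G r p = syl A G p
  · exact ⟨H, (hne' ▸ DH).symm⟩
  exfalso
  have hdis := M.disjoint_supports hpr hdp hdr hne hne' DK DH
  by_cases hp2 : p = 2
  · exact M.false_of_disjoint (Ne.symm hpr) (fun e => hpr (hp2.trans e.symm)) hdr hdp
      fun c hc hc1 => (hdis c hc hc1).symm
  · exact M.false_of_disjoint hpr hp2 hdp hdr hdis

end CfsgLib.QSq.Min
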